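import Mathlib
import Cfsg.Agent.H489.AS.Base
import Cfsg.Agent.H518.SUPlus

/-!
# S3943, orthogonal groups: the groups `K1` (helper500)

* `eq_one_of_fix` : an element of `K1` fixing `C_V(z)` is trivial;
* `card_K1_zero`, `card_K1_one`, `card_K1_two` : the order of `K1` if `C_V(z)` has dimension 0, 1, 2.
-/

set_option autoImplicit false

universe u v w

namespace Cfsg.Agent.H500.AS

open Module Cfsg.Agent.H518.DghpFix Cfsg.Agent.H518.SU Cfsg.Agent.H489.AS QuadraticMap

section

variable {F : Type u} [Field F] {V : Type v} [AddCommGroup V] [Module F V] {G : Type w} [Group G]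

theorem K1_pow {φ : G →* (V →ₗ[F] V)} {z g : G} (hg : g ∈ K1 φ z) (v : V) (i : ℕ) :
    φ g (φ (z ^ i) v - v) = φ (z ^ i) v - v := by
  induction i with
  | zero => rw [pow_zero, map_one, Module.End.one_apply, sub_self, map_zero]
  | succ i ih =>
    have h1 := (mem_K1.1 hg).2 (φ (z ^ i) v)
    rw [← Module.End.mul_apply (φ z), ← map_mul, ← pow_succ'] at h1
    have h2 : φ (z ^ (i + 1)) v - v = (φ (z ^ (i + 1)) v - φ (z ^ i) v) + (φ (z ^ i) v - v) := by abel
    rw [h2, map_add, h1, ih]

/-- an element of `K1` fixing `C_V(z)` is trivial -/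
theorem map_eq_one_of_fix {φ : G →* (V →ₗ[F] V)} {p : ℕ} (hpF : (p : F) ≠ 0) {z g : G} (hz : z ^ p = 1)
    (hg : g ∈ K1 φ z) (hfix : ∀ v ∈ fixS (φ z), φ g v = v) : φ g = 1 := by
  ext v
  rw [Module.End.one_apply]
  set s := ∑ i ∈ Finset.range p, φ (z ^ i) v with hs
  have h1 : φ z s = s := by
    rw [hs, map_sum]
    have h2 : ∀ i ∈ Finset.range p, φ z (φ (z ^ i) v) = φ (z ^ (i + 1)) v := by
      intro i _
      rw [← Module.End.mul_apply, ← map_mul, ← pow_succ']
    rw [Finset.sum_congr rfl h2]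
    have h3 := Finset.sum_range_succ (fun i => φ (z ^ i) v) p
    have h4 := Finset.sum_range_succ' (fun i => φ (z ^ i) v) p
    rw [h3, hz, pow_zero] at h4
    exact (add_right_cancel h4).symm
  have h2 : φ g s = s := hfix s h1
  have h3 : s = ∑ i ∈ Finset.range p, (φ (z ^ i) v - v) + (p : F) • v := by
    rw [Finset.sum_sub_distrib, Finset.sum_const, Finset.card_range, Nat.cast_smul_eq_nsmul, sub_add_cancel]
  have h4 : φ g (∑ i ∈ Finset.range p, (φ (z ^ i) v - v)) = ∑ i ∈ Finset.range p, (φ (z ^ i) v - v) := by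
    rw [map_sum]
    exact Finset.sum_congr rfl fun i _ => K1_pow hg v i
  rw [h3, map_add, h4, map_smul] at h2
  have h5 := add_left_cancel h2
  have h6 := congrArg (fun w => (p : F)⁻¹ • w) h5
  simp only [smul_smul, inv_mul_cancel₀ hpF, one_smul] at h6
  exact h6

theorem eq_one_of_fix {φ : G →* (V →ₗ[F] V)} (hφ : Function.Injective φ) {p : ℕ} (hpF : (p : F) ≠ 0) {z g : G}
    (hz : z ^ p = 1) (hg : g ∈ K1 φ z) (hfix : ∀ v ∈ fixS (φ z), φ g v = v) : g = 1 :=
  hφ (by rw [map_eq_one_of_fix hpF hz hg hfix, map_one])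

/-- `K1` acts on `C_V(z)` -/
theorem K1_fix {φ : G →* (V →ₗ[F] V)} {z g : G} (hg : g ∈ K1 φ z) {v : V} (hv : v ∈ fixS (φ z)) :
    φ g v ∈ fixS (φ z) :=
  fixS_invariant (f := φ z) (g := φ g) (by rw [← map_mul, ← map_mul, (mem_K1.1 hg).1]) v hv

/-- `C_V(z) = 0` -/
theorem card_K1_zero {φ : G →* (V →ₗ[F] V)} (hφ : Function.Injective φ) {p : ℕ} (hpF : (p : F) ≠ 0) {z : G}
    (hz : z ^ p = 1) (h0 : fixS (φ z) = ⊥) : Nat.card (K1 φ z) = 1 := by
  have h1 : K1 φ z = ⊥ := by
    rw [Subgroup.eq_bot_iff_forall]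
    intro g hg
    refine eq_one_of_fix hφ hpF hz hg fun v hv => ?_
    rw [h0, Submodule.mem_bot] at hv
    rw [hv, map_zero]
  rw [h1, Subgroup.card_bot]

/-- counting by the image of one vector -/
theorem card_le_of_span [Fintype F] [FiniteDimensional F V] {φ : G →* (V →ₗ[F] V)} (hφ : Function.Injective φ) {p : ℕ}
    (hpF : (p : F) ≠ 0) {z : G} (hz : z ^ p = 1) {w : V} (hw0 : w ≠ 0) (hw : fixS (φ z) = Submodule.span F {w}) :
    Nat.card (K1 φ z) ≤ Fintype.card F - 1 := by
  classical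
  have : Finite F := Finite.of_fintype F
  have key : ∀ g : K1 φ z, ∃ c : F, c ≠ 0 ∧ φ g.1 w = c • w := by
    intro g
    have h1 : w ∈ fixS (φ z) := by rw [hw]; exact Submodule.mem_span_singleton_self w
    have h2 := K1_fix g.2 h1
    rw [hw, Submodule.mem_span_singleton] at h2
    obtain ⟨c, hc⟩ := h2
    refine ⟨c, ?_, hc.symm⟩
    rintro rfl
    rw [zero_smul] at hc
    apply hw0
    have h3 := congrArg (φ (g.1)⁻¹) hc
    rw [← Module.End.mul_apply, ← map_mul, inv_mul_cancel, map_one, map_zero] at h3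
    exact h3.symm
  choose c hc0 hc using key
  have hinj : Function.Injective (fun g : K1 φ z => (⟨c g, hc0 g⟩ : {x : F // x ≠ 0})) := by
    intro g h hgh
    have h1 : c g = c h := congrArg Subtype.val hgh
    have h2 : (g⁻¹ * h : K1 φ z) = 1 := by
      apply Subtype.ext
      refine eq_one_of_fix hφ hpF hz (g⁻¹ * h).2 fun v hv => ?_
      rw [hw, Submodule.mem_span_singleton] at hv
      obtain ⟨a, rfl⟩ := hv
      rw [map_smul]
      congr 1
      show φ ((g.1)⁻¹ * h.1) w = w
      rw [map_mul, Module.End.mul_apply, hc h, ← h1, ← hc g, ← Module.End.mul_apply, ← map_mul, inv_mul_cancel,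
        map_one, Module.End.one_apply]
    exact (inv_mul_eq_one.1 h2)
  have h1 := Nat.card_le_card_of_injective _ hinj
  have h2 : Nat.card {x : F // x ≠ 0} = Fintype.card F - 1 := by
    rw [Nat.card_eq_fintype_card, Fintype.card_subtype_compl, Fintype.card_subtype_eq]
  omega

/-- `C_V(z)` of dimension one -/
theorem card_K1_one [Fintype F] [FiniteDimensional F V] {φ : G →* (V →ₗ[F] V)} (hφ : Function.Injective φ) {p : ℕ}
    (hpF : (p : F) ≠ 0) {z : G} (hz : z ^ p = 1) (h1 : finrank F (fixS (φ z)) = 1) :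
    Nat.card (K1 φ z) ≤ Fintype.card F - 1 := by
  obtain ⟨⟨w, hw⟩, hw0, hspan⟩ := finrank_eq_one_iff'.1 h1
  have hw0' : w ≠ 0 := fun h => hw0 (Subtype.ext h)
  refine card_le_of_span hφ hpF hz hw0' ?_
  apply le_antisymm
  · intro v hv
    obtain ⟨c, hc⟩ := hspan ⟨v, hv⟩
    exact Submodule.mem_span_singleton.2 ⟨c, congrArg Subtype.val hc⟩
  · rw [Submodule.span_singleton_le_iff_mem]
    exact hw

/-- `C_V(z)` of dimension two, anisotropic -/
theorem card_K1_two [Fintype F] [FiniteDimensional F V] [Finite G] {φ : G →* (V →ₗ[F] V)} (hφ : Function.Injective φ)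
    {p : ℕ} (hpF : (p : F) ≠ 0) {z : G} (hz : z ^ p = 1) (h2 : finrank F (fixS (φ z)) = 2) (Q : QuadraticForm F V)
    (hQ : ∀ g v, Q (φ g v) = Q v) (han : ∀ v ∈ fixS (φ z), Q v = 0 → v = 0)
    (hnd : ∀ v ∈ fixS (φ z), (∀ w ∈ fixS (φ z), polar (⇑Q) v w = 0) → v = 0) :
    Nat.card (K1 φ z) ≤ 2 * (Fintype.card F ^ 2 - 1) := by
  classical
  have : Finite F := Finite.of_fintype F
  have : Finite V := Module.finite_of_finite F
  have : Fintype V := Fintype.ofFinite V
  have : Fintype (K1 φ z) := Fintype.ofFinite _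
  set C := fixS (φ z) with hC
  have hpol : ∀ g v w, polar (⇑Q) (φ g v) (φ g w) = polar (⇑Q) v w := by
    intro g v w
    simp only [polar, ← map_add, hQ]
  -- a basis
  let b := Module.finBasisOfFinrankEq F C h2
  set w1 : V := (b 0 : V) with hw1
  set w2 : V := (b 1 : V) with hw2
  have hw1C : w1 ∈ C := (b 0).2
  have hw2C : w2 ∈ C := (b 1).2
  have hw10 : w1 ≠ 0 := fun h => b.ne_zero 0 (Subtype.ext h)
  have hrep : ∀ v ∈ C, ∃ s t : F, v = s • w1 + t • w2 := by
    intro v hv
    have h3 := b.sum_repr ⟨v, hv⟩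
    rw [Fin.sum_univ_two] at h3
    exact ⟨_, _, (congrArg Subtype.val h3).symm⟩
  have hone : ∀ g ∈ K1 φ z, φ g w1 = w1 → φ g w2 = w2 → g = 1 := by
    intro g hg e1 e2
    refine eq_one_of_fix hφ hpF hz hg fun v hv => ?_
    obtain ⟨s, t, rfl⟩ := hrep v hv
    rw [map_add, map_smul, map_smul, e1, e2]
  -- fibres
  have hfib : ∀ u ∈ (Finset.univ : Finset (K1 φ z)).image (fun g => φ g.1 w1),
      ((Finset.univ : Finset (K1 φ z)).filter (fun g => φ g.1 w1 = u)).card ≤ 2 := by
    intro u hu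
    obtain ⟨g0, -, rfl⟩ := Finset.mem_image.1 hu
    have hu : φ g0.1 w1 ∈ C := K1_fix g0.2 hw1C
    set u := φ g0.1 w1 with hudef
    have hu0 : u ≠ 0 := by
      intro h
      apply hw10
      have h3 := congrArg (φ (g0.1)⁻¹) h
      rw [hudef, ← Module.End.mul_apply, ← map_mul, inv_mul_cancel, map_one, map_zero] at h3
      exact h3
    -- a vector orthogonal to `u`
    obtain ⟨x, hxC, hx⟩ : ∃ x ∈ C, polar (⇑Q) u x ≠ 0 := by
      by_contra hcon
      push Not at hcon
      exact hu0 (hnd u hu hcon)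
    -- the line orthogonal to `u`
    have hline : ∃ t ∈ C, t ≠ 0 ∧ ∀ v ∈ C, polar (⇑Q) u v = 0 → ∃ l : F, v = l • t := by
      let f : C →ₗ[F] F :=
        { toFun := fun v => polar (⇑Q) u v
          map_add' := fun v w => polar_add_right Q u v w
          map_smul' := fun c v => by
            show polar (⇑Q) u (c • (v : V)) = c • polar (⇑Q) u v
            rw [polar_smul_right] }
      have hf : f ≠ 0 := fun h => hx (by
        have := congrArg (fun k : C →ₗ[F] F => k ⟨x, hxC⟩) h
        exact this)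
      have hr : finrank F (LinearMap.range f) = 1 := by
        have h3 : LinearMap.range f = ⊤ := LinearMap.range_eq_top.2 (LinearMap.surjective hf)
        rw [h3, finrank_top, finrank_self]
      have hk := LinearMap.finrank_range_add_finrank_ker f
      rw [hr, h2] at hk
      obtain ⟨⟨⟨t, htC⟩, htk⟩, ht0, hspan⟩ := finrank_eq_one_iff'.1 (show finrank F (LinearMap.ker f) = 1 by omega)
      refine ⟨t, htC, fun h => ht0 (Subtype.ext (Subtype.ext h)), fun v hv hv0 => ?_⟩
      obtain ⟨l, hl⟩ := hspan ⟨⟨v, hv⟩, LinearMap.mem_ker.2 hv0⟩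
      exact ⟨l, (congrArg (fun k : LinearMap.ker f => ((k : C) : V)) hl).symm⟩
    obtain ⟨t, htC, ht0, ht⟩ := hline
    have hQt : Q t ≠ 0 := fun h => ht0 (han t htC h)
    set y := φ g0.1 w2 with hy
    set y' := y + (-(polar (⇑Q) y t / Q t)) • t with hy'
    have hsub : ∀ g ∈ (Finset.univ : Finset (K1 φ z)).filter (fun g => φ g.1 w1 = u),
        φ g.1 w2 ∈ ({y, y'} : Finset V) := by
      intro g hg
      have hg1 : φ g.1 w1 = u := (Finset.mem_filter.1 hg).2
      have h3 : polar (⇑Q) u (φ g.1 w2 - y) = 0 := by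
        have h4 : polar (⇑Q) u (φ g.1 w2) = polar (⇑Q) w1 w2 := by rw [← hg1, hpol]
        have h5 : polar (⇑Q) u y = polar (⇑Q) w1 w2 := by rw [hudef, hy, hpol]
        rw [polar_sub_right, h4, h5, sub_self]
      obtain ⟨l, hl⟩ := ht (φ g.1 w2 - y) (C.sub_mem (K1_fix g.2 hw2C) (K1_fix g0.2 hw2C)) h3
      have h4 : φ g.1 w2 = y + l • t := by rw [← hl]; abel
      have h5 : Q (y + l • t) = Q y := by rw [← h4, hQ, hy, hQ]
      rw [QuadraticMap.map_add Q, QuadraticMap.map_smul, polar_smul_right] at h5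
      have h6 : l * (l * Q t + polar (⇑Q) y t) = 0 := by
        simp only [smul_eq_mul] at h5
        linear_combination h5
      rw [Finset.mem_insert, Finset.mem_singleton]
      rcases mul_eq_zero.1 h6 with h7 | h7
      · left
        rw [h4, h7, zero_smul, add_zero]
      · right
        rw [h4, hy']
        congr 2
        field_simp
        linear_combination h7
    have hinj : Set.InjOn (fun g : K1 φ z => φ g.1 w2)
        ((Finset.univ : Finset (K1 φ z)).filter (fun g => φ g.1 w1 = u)) := by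
      intro g hg h hh hgh
      have hg1 : φ g.1 w1 = u := (Finset.mem_filter.1 hg).2
      have hh1 : φ h.1 w1 = u := (Finset.mem_filter.1 hh).2
      have hgh' : φ g.1 w2 = φ h.1 w2 := hgh
      have h3 : (g.1)⁻¹ * h.1 = 1 := by
        refine hone _ (mul_mem (inv_mem g.2) h.2) ?_ ?_
        · rw [map_mul, Module.End.mul_apply, hh1, ← hg1, ← Module.End.mul_apply, ← map_mul, inv_mul_cancel, map_one,
            Module.End.one_apply]
        · rw [map_mul, Module.End.mul_apply, ← hgh', ← Module.End.mul_apply, ← map_mul, inv_mul_cancel, map_one,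
            Module.End.one_apply]
      exact Subtype.ext (inv_mul_eq_one.1 h3)
    exact (Finset.card_le_card_of_injOn (fun g : K1 φ z => φ g.1 w2) hsub hinj).trans Finset.card_le_two
  have h3 := Finset.card_le_mul_card_image (Finset.univ : Finset (K1 φ z)) 2 hfib
  have h4 : ((Finset.univ : Finset (K1 φ z)).image (fun g => φ g.1 w1)).card ≤ Fintype.card F ^ 2 - 1 := by
    have h5 : (Finset.univ : Finset (K1 φ z)).image (fun g => φ g.1 w1) ⊆
        ((Finset.univ : Finset V).filter (fun v => v ∈ C)).erase 0 := by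
      intro v hv
      obtain ⟨g, -, rfl⟩ := Finset.mem_image.1 hv
      rw [Finset.mem_erase, Finset.mem_filter]
      refine ⟨fun h => hw10 ?_, Finset.mem_univ _, K1_fix g.2 hw1C⟩
      have h6 := congrArg (φ (g.1)⁻¹) h
      rw [← Module.End.mul_apply, ← map_mul, inv_mul_cancel, map_one, map_zero] at h6
      exact h6
    have h6 := Finset.card_le_card h5
    rw [Finset.card_erase_of_mem (by simp)] at h6
    have h7 : ((Finset.univ : Finset V).filter (fun v => v ∈ C)).card = Fintype.card F ^ 2 := by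
      rw [← h2, ← Nat.card_eq_fintype_card (α := F), ← Module.natCard_eq_pow_finrank (K := F) (V := C),
        Nat.card_eq_fintype_card, Fintype.card_subtype]
    omega
  rw [Nat.card_eq_fintype_card, ← Finset.card_univ]
  exact h3.trans (Nat.mul_le_mul_left 2 h4)

end

end Cfsg.Agent.H500.AS
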