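import Mathlib
import Cfsg.Agent.H518.SUSeven

/-!
# `Ω_7(3)`: explicit elements of order 7 and 2 (helper500)

Over a field with `3 = 0`: `w = e_0 - f_0`, `t = g * g` the isometry `-1` on `w^⊥`, `1` on `w`; `z` the cyclic permutation
of an orthogonal basis (`Q = -1`) with sum `w`.
-/

set_option autoImplicit false
set_option linter.unusedSectionVars false

namespace Cfsg.Agent.H500.AS.Seven

open Module QuadraticMap Cfsg.Agent.LieClassical.OrthCore

variable {F : Type} [Field F]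

/-- the space -/
abbrev V7 (F : Type) : Type := Unit ⊕ (Fin 3 ⊕ Fin 3) → F

/-- the form -/
abbrev Q7 (F : Type) [Field F] : QuadraticForm F (V7 F) := LieClassical.OrthForms.oddForm 3 F

/-- vectors by coordinates -/
def mk (a x0 x1 x2 y0 y1 y2 : F) : V7 F := Sum.elim (fun _ => a) (Sum.elim ![x0, x1, x2] ![y0, y1, y2])

@[simp] theorem mk_a (a x0 x1 x2 y0 y1 y2 : F) : mk a x0 x1 x2 y0 y1 y2 (.inl ()) = a := rfl
@[simp] theorem mk_x0 (a x0 x1 x2 y0 y1 y2 : F) : mk a x0 x1 x2 y0 y1 y2 (.inr (.inl 0)) = x0 := rfl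
@[simp] theorem mk_x1 (a x0 x1 x2 y0 y1 y2 : F) : mk a x0 x1 x2 y0 y1 y2 (.inr (.inl 1)) = x1 := rfl
@[simp] theorem mk_x2 (a x0 x1 x2 y0 y1 y2 : F) : mk a x0 x1 x2 y0 y1 y2 (.inr (.inl 2)) = x2 := rfl
@[simp] theorem mk_y0 (a x0 x1 x2 y0 y1 y2 : F) : mk a x0 x1 x2 y0 y1 y2 (.inr (.inr 0)) = y0 := rfl
@[simp] theorem mk_y1 (a x0 x1 x2 y0 y1 y2 : F) : mk a x0 x1 x2 y0 y1 y2 (.inr (.inr 1)) = y1 := rfl
@[simp] theorem mk_y2 (a x0 x1 x2 y0 y1 y2 : F) : mk a x0 x1 x2 y0 y1 y2 (.inr (.inr 2)) = y2 := rfl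

omit [Field F] in
theorem ext7 {u v : V7 F} (ha : u (.inl ()) = v (.inl ())) (h0 : u (.inr (.inl 0)) = v (.inr (.inl 0)))
    (h1 : u (.inr (.inl 1)) = v (.inr (.inl 1))) (h2 : u (.inr (.inl 2)) = v (.inr (.inl 2)))
    (k0 : u (.inr (.inr 0)) = v (.inr (.inr 0))) (k1 : u (.inr (.inr 1)) = v (.inr (.inr 1)))
    (k2 : u (.inr (.inr 2)) = v (.inr (.inr 2))) : u = v := by
  funext i
  rcases i with ⟨⟩ | (i | i)
  · exact ha
  · fin_cases i
    · exact h0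
    · exact h1
    · exact h2
  · fin_cases i
    · exact k0
    · exact k1
    · exact k2

theorem Q7_apply (v : V7 F) : Q7 F v = v (.inl ()) ^ 2 + (v (.inr (.inl 0)) * v (.inr (.inr 0)) +
    v (.inr (.inl 1)) * v (.inr (.inr 1)) + v (.inr (.inl 2)) * v (.inr (.inr 2))) := by
  rw [LieClassical.OrthForms.coe_oddForm]
  show _ + ∑ i : Fin 3, _ = _
  rw [Fin.sum_univ_three]

/-- the square root of `t` -/
def gL : V7 F →ₗ[F] V7 F where
  toFun v := mk (v (.inr (.inl 0)) + v (.inr (.inr 0)))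
    (v (.inl ()) - (v (.inr (.inl 0)) - v (.inr (.inr 0)))) (-v (.inr (.inl 2))) (v (.inr (.inl 1)))
    (v (.inl ()) + (v (.inr (.inl 0)) - v (.inr (.inr 0)))) (-v (.inr (.inr 2))) (v (.inr (.inr 1)))
  map_add' u v := by
    apply ext7 <;> simp only [mk_a, mk_x0, mk_x1, mk_x2, mk_y0, mk_y1, mk_y2, Pi.add_apply] <;> ring
  map_smul' c u := by
    apply ext7 <;> simp only [mk_a, mk_x0, mk_x1, mk_x2, mk_y0, mk_y1, mk_y2, Pi.smul_apply, smul_eq_mul,
      RingHom.id_apply] <;> ring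

/-- `t` -/
def tL : V7 F →ₗ[F] V7 F where
  toFun v := mk (-v (.inl ())) (-v (.inr (.inr 0))) (-v (.inr (.inl 1))) (-v (.inr (.inl 2)))
    (-v (.inr (.inl 0))) (-v (.inr (.inr 1))) (-v (.inr (.inr 2)))
  map_add' u v := by
    apply ext7 <;> simp only [mk_a, mk_x0, mk_x1, mk_x2, mk_y0, mk_y1, mk_y2, Pi.add_apply] <;> ring
  map_smul' c u := by
    apply ext7 <;> simp only [mk_a, mk_x0, mk_x1, mk_x2, mk_y0, mk_y1, mk_y2, Pi.smul_apply, smul_eq_mul,
      RingHom.id_apply] <;> ring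

theorem gL_apply (v : V7 F) : gL v = mk (v (.inr (.inl 0)) + v (.inr (.inr 0)))
    (v (.inl ()) - (v (.inr (.inl 0)) - v (.inr (.inr 0)))) (-v (.inr (.inl 2))) (v (.inr (.inl 1)))
    (v (.inl ()) + (v (.inr (.inl 0)) - v (.inr (.inr 0)))) (-v (.inr (.inr 2))) (v (.inr (.inr 1))) := rfl

theorem tL_apply (v : V7 F) : tL v = mk (-v (.inl ())) (-v (.inr (.inr 0))) (-v (.inr (.inl 1))) (-v (.inr (.inl 2)))
    (-v (.inr (.inl 0))) (-v (.inr (.inr 1))) (-v (.inr (.inr 2))) := rfl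

theorem tL_tL (v : V7 F) : tL (tL v) = v := by
  rw [tL_apply, tL_apply]
  apply ext7 <;> simp only [mk_a, mk_x0, mk_x1, mk_x2, mk_y0, mk_y1, mk_y2] <;> ring

theorem gL_gL (h3 : (3 : F) = 0) (v : V7 F) : gL (gL v) = tL v := by
  rw [gL_apply, gL_apply, tL_apply]
  apply ext7 <;> simp only [mk_a, mk_x0, mk_x1, mk_x2, mk_y0, mk_y1, mk_y2]
  · linear_combination v (.inl ()) * h3
  · linear_combination v (.inr (.inl 0)) * h3
  · linear_combination v (.inr (.inr 0)) * h3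

theorem gL_tL (v : V7 F) : gL (tL v) = tL (gL v) := by
  rw [gL_apply, tL_apply, tL_apply, gL_apply]
  apply ext7 <;> simp only [mk_a, mk_x0, mk_x1, mk_x2, mk_y0, mk_y1, mk_y2] <;> ring

/-- the linear equivalence -/
def gE (h3 : (3 : F) = 0) : V7 F ≃ₗ[F] V7 F :=
  LinearEquiv.ofLinearMap gL (tL ∘ₗ gL)
    (LinearMap.ext fun v => by
      show gL (tL (gL v)) = v
      rw [gL_tL, gL_gL h3, tL_tL])
    (LinearMap.ext fun v => by
      show tL (gL (gL v)) = v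
      rw [gL_gL h3, tL_tL])

theorem gE_apply (h3 : (3 : F) = 0) (v : V7 F) : gE h3 v = gL v := rfl

theorem gE_mem (h3 : (3 : F) = 0) : gE h3 ∈ O (Q7 F) := by
  intro v
  rw [gE_apply, gL_apply, Q7_apply, Q7_apply]
  simp only [mk_a, mk_x0, mk_x1, mk_x2, mk_y0, mk_y1, mk_y2]
  linear_combination v (.inr (.inl 0)) * v (.inr (.inr 0)) * h3

/-- `t` -/
def tE (h3 : (3 : F) = 0) : V7 F ≃ₗ[F] V7 F := gE h3 * gE h3

theorem tE_apply (h3 : (3 : F) = 0) (v : V7 F) : tE h3 v = tL v := gL_gL h3 v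

theorem tE_sq (h3 : (3 : F) = 0) : tE h3 * tE h3 = 1 := by
  apply LinearEquiv.ext
  intro v
  show tE h3 (tE h3 v) = v
  rw [tE_apply, tE_apply, tL_tL]

/-- the basis -/
def bL : (Fin 7 → F) →ₗ[F] V7 F where
  toFun c := mk (c 5 - c 6) (c 2 + c 3 - c 4) (c 1 + c 5 + c 6) (c 0 + c 3 + c 4)
    (c 0 + c 1 - c 2 - c 3 + c 5 + c 6) (-c 1 - c 2 - c 3 + c 4 + c 5 + c 6) (-c 0 - c 2 - c 4)
  map_add' u v := by
    apply ext7 <;> simp only [mk_a, mk_x0, mk_x1, mk_x2, mk_y0, mk_y1, mk_y2, Pi.add_apply] <;> ring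
  map_smul' c u := by
    apply ext7 <;> simp only [mk_a, mk_x0, mk_x1, mk_x2, mk_y0, mk_y1, mk_y2, Pi.smul_apply, smul_eq_mul,
      RingHom.id_apply] <;> ring

theorem bL_apply (c : Fin 7 → F) : bL c = mk (c 5 - c 6) (c 2 + c 3 - c 4) (c 1 + c 5 + c 6) (c 0 + c 3 + c 4)
    (c 0 + c 1 - c 2 - c 3 + c 5 + c 6) (-c 1 - c 2 - c 3 + c 4 + c 5 + c 6) (-c 0 - c 2 - c 4) := rfl

/-- the coordinates -/
def cL : V7 F →ₗ[F] (Fin 7 → F) where
  toFun v := ![v (.inr (.inr 2)) + v (.inr (.inl 0)) - v (.inr (.inl 2)),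
    v (.inr (.inr 1)) + v (.inr (.inl 0)) - v (.inr (.inl 1)),
    v (.inr (.inr 0)) - v (.inr (.inl 0)) - v (.inr (.inl 1)) - v (.inr (.inl 2)),
    v (.inr (.inr 0)) + v (.inr (.inr 2)) - v (.inr (.inl 0)) - v (.inr (.inl 1)),
    -v (.inr (.inr 0)) + v (.inr (.inr 2)) + v (.inr (.inl 1)) - v (.inr (.inl 2)),
    -v (.inl ()) + v (.inr (.inr 1)) + v (.inr (.inl 0)) + v (.inr (.inl 1)),
    v (.inl ()) + v (.inr (.inr 1)) + v (.inr (.inl 0)) + v (.inr (.inl 1))]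
  map_add' u v := by
    funext i
    fin_cases i <;> simp <;> ring
  map_smul' c u := by
    funext i
    fin_cases i <;> simp <;> ring

theorem cL_apply (v : V7 F) : cL v = ![v (.inr (.inr 2)) + v (.inr (.inl 0)) - v (.inr (.inl 2)),
    v (.inr (.inr 1)) + v (.inr (.inl 0)) - v (.inr (.inl 1)),
    v (.inr (.inr 0)) - v (.inr (.inl 0)) - v (.inr (.inl 1)) - v (.inr (.inl 2)),
    v (.inr (.inr 0)) + v (.inr (.inr 2)) - v (.inr (.inl 0)) - v (.inr (.inl 1)),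
    -v (.inr (.inr 0)) + v (.inr (.inr 2)) + v (.inr (.inl 1)) - v (.inr (.inl 2)),
    -v (.inl ()) + v (.inr (.inr 1)) + v (.inr (.inl 0)) + v (.inr (.inl 1)),
    v (.inl ()) + v (.inr (.inr 1)) + v (.inr (.inl 0)) + v (.inr (.inl 1))] := rfl

theorem cL_bL (h3 : (3 : F) = 0) (c : Fin 7 → F) : cL (bL c) = c := by
  rw [cL_apply, bL_apply]
  simp only [mk_a, mk_x0, mk_x1, mk_x2, mk_y0, mk_y1, mk_y2]
  funext i
  fin_cases i
  · show -c 0 - c 2 - c 4 + (c 2 + c 3 - c 4) - (c 0 + c 3 + c 4) = c 0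
    linear_combination (-c 0 - c 4) * h3
  · show -c 1 - c 2 - c 3 + c 4 + c 5 + c 6 + (c 2 + c 3 - c 4) - (c 1 + c 5 + c 6) = c 1
    linear_combination (-c 1) * h3
  · show c 0 + c 1 - c 2 - c 3 + c 5 + c 6 - (c 2 + c 3 - c 4) - (c 1 + c 5 + c 6) - (c 0 + c 3 + c 4) = c 2
    linear_combination (-c 2 - c 3) * h3
  · show c 0 + c 1 - c 2 - c 3 + c 5 + c 6 + (-c 0 - c 2 - c 4) - (c 2 + c 3 - c 4) - (c 1 + c 5 + c 6) = c 3
    linear_combination (-c 2 - c 3) * h3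
  · show -(c 0 + c 1 - c 2 - c 3 + c 5 + c 6) + (-c 0 - c 2 - c 4) + (c 1 + c 5 + c 6) - (c 0 + c 3 + c 4) = c 4
    linear_combination (-c 0 - c 4) * h3
  · show -(c 5 - c 6) + (-c 1 - c 2 - c 3 + c 4 + c 5 + c 6) + (c 2 + c 3 - c 4) + (c 1 + c 5 + c 6) = c 5
    linear_combination (c 6) * h3
  · show c 5 - c 6 + (-c 1 - c 2 - c 3 + c 4 + c 5 + c 6) + (c 2 + c 3 - c 4) + (c 1 + c 5 + c 6) = c 6
    linear_combination (c 5) * h3

theorem bL_cL (h3 : (3 : F) = 0) (v : V7 F) : bL (cL v) = v := by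
  rw [cL_apply, bL_apply]
  apply ext7 <;> simp only [mk_a, mk_x0, mk_x1, mk_x2, mk_y0, mk_y1, mk_y2, Matrix.cons_val]
  · linear_combination (-v (.inl ())) * h3
  · linear_combination (-v (.inr (.inl 0)) - v (.inr (.inl 1)) + v (.inr (.inr 0))) * h3
  · linear_combination (v (.inr (.inl 0)) + v (.inr (.inr 1))) * h3
  · linear_combination (-v (.inr (.inl 2)) + v (.inr (.inr 2))) * h3
  · linear_combination (2 * v (.inr (.inl 0)) + v (.inr (.inl 1)) - v (.inr (.inr 0)) + v (.inr (.inr 1))) * h3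
  · linear_combination (v (.inr (.inl 0)) + 2 * v (.inr (.inl 1)) - v (.inr (.inr 0))) * h3
  · linear_combination (v (.inr (.inl 2)) - v (.inr (.inr 2))) * h3

/-- the basis as a linear equivalence -/
def bE (h3 : (3 : F) = 0) : (Fin 7 → F) ≃ₗ[F] V7 F :=
  LinearEquiv.ofLinearMap bL cL (LinearMap.ext fun v => bL_cL h3 v) (LinearMap.ext fun c => cL_bL h3 c)

theorem Q7_bL (h3 : (3 : F) = 0) (c : Fin 7 → F) : Q7 F (bL c) = - ∑ i, c i ^ 2 := by
  rw [bL_apply, Q7_apply, Fin.sum_univ_seven]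
  simp only [mk_a, mk_x0, mk_x1, mk_x2, mk_y0, mk_y1, mk_y2]
  linear_combination (-c 0 * c 4 - c 2 * c 3 + c 5 * c 5 + c 6 * c 6) * h3

/-- `z` -/
def zE (h3 : (3 : F) = 0) : V7 F ≃ₗ[F] V7 F :=
  (bE h3).symm ≪≫ₗ (LinearEquiv.funCongrLeft F F (finRotate 7)) ≪≫ₗ bE h3

theorem zE_bL (h3 : (3 : F) = 0) (c : Fin 7 → F) : zE h3 (bL c) = bL (fun i => c (finRotate 7 i)) := by
  show bL (LinearEquiv.funCongrLeft F F (finRotate 7) (cL (bL c))) = _
  rw [cL_bL h3]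
  rfl

theorem zE_mem (h3 : (3 : F) = 0) : zE h3 ∈ O (Q7 F) := by
  intro v
  rw [← bL_cL h3 v, zE_bL, Q7_bL h3, Q7_bL h3]
  congr 1
  exact Equiv.sum_comp (finRotate 7) (fun i => cL v i ^ 2)

theorem zE_pow_bL (h3 : (3 : F) = 0) (k : ℕ) (c : Fin 7 → F) :
    (zE h3 ^ k) (bL c) = bL (fun i => c ((finRotate 7 ^ k) i)) := by
  induction k generalizing c with
  | zero => rfl
  | succ k ih =>
    rw [pow_succ]
    show (zE h3 ^ k) (zE h3 (bL c)) = _
    rw [zE_bL, ih]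
    congr 1
    funext i
    show c (finRotate 7 ((finRotate 7 ^ k) i)) = _
    rw [pow_succ']
    rfl

theorem zE_seven (h3 : (3 : F) = 0) : zE h3 ^ 7 = 1 := by
  apply LinearEquiv.ext
  intro v
  rw [← bL_cL h3 v, zE_pow_bL]
  have h : (finRotate 7) ^ 7 = 1 := by decide
  rw [h]
  rfl

theorem zE_ne_one (h3 : (3 : F) = 0) : zE h3 ≠ 1 := by
  intro h
  have h1 := zE_bL h3 (Pi.single 0 1)
  rw [h] at h1
  have h2 : bL (Pi.single 0 1 : Fin 7 → F) = bL (fun i => (Pi.single 0 1 : Fin 7 → F) (finRotate 7 i)) := h1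
  have h3' := congrArg cL h2
  rw [cL_bL h3, cL_bL h3] at h3'
  have h4 := congrFun h3' 0
  have h5 : (finRotate 7) 0 = 1 := by decide
  rw [h5] at h4
  simp at h4

/-- the vector fixed by both -/
def w7 : V7 F := mk 0 1 0 0 (-1) 0 0

theorem bL_one (h3 : (3 : F) = 0) : bL (fun _ : Fin 7 => (1 : F)) = w7 := by
  rw [bL_apply, w7]
  apply ext7 <;> simp only [mk_a, mk_x0, mk_x1, mk_x2, mk_y0, mk_y1, mk_y2]
  · ring
  · ring
  · linear_combination h3
  · linear_combination h3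
  · linear_combination h3
  · ring
  · linear_combination (-1 : F) * h3

theorem zE_w (h3 : (3 : F) = 0) : zE h3 w7 = w7 := by
  rw [← bL_one h3, zE_bL]

theorem polar_w (v : V7 F) : polar (Q7 F) v w7 = v (.inr (.inr 0)) - v (.inr (.inl 0)) := by
  rw [LieClassical.OrthForms.polar_oddForm, Fin.sum_univ_three, w7]
  simp only [mk_a, mk_x0, mk_x1, mk_x2, mk_y0, mk_y1, mk_y2]
  ring

theorem tL_eq (v : V7 F) : tL v = - v - polar (Q7 F) v w7 • w7 := by
  rw [polar_w, tL_apply, w7]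
  apply ext7 <;> simp only [mk_a, mk_x0, mk_x1, mk_x2, mk_y0, mk_y1, mk_y2, Pi.sub_apply, Pi.neg_apply,
    Pi.smul_apply, smul_eq_mul] <;> ring

theorem tE_zE (h3 : (3 : F) = 0) : tE h3 * zE h3 = zE h3 * tE h3 := by
  apply LinearEquiv.ext
  intro v
  show tE h3 (zE h3 v) = zE h3 (tE h3 v)
  rw [tE_apply, tE_apply, tL_eq, tL_eq, map_sub, map_neg, map_smul, zE_w]
  have h1 : polar (Q7 F) (zE h3 v) w7 = polar (Q7 F) v w7 := by
    have := polar_map (zE_mem h3) v w7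
    rwa [zE_w] at this
  rw [h1]

theorem eq_smul_of_tL (h2 : (2 : F) ≠ 0) {v : V7 F} (h : tL v = v) : v = v (.inr (.inl 0)) • w7 := by
  rw [tL_apply] at h
  have hh : ∀ a : F, -a = a → a = 0 := fun a ha => by
    have h1 : 2 * a = 0 := by linear_combination (-1 : F) * ha
    exact (mul_eq_zero.1 h1).resolve_left h2
  have ha := hh _ (congrFun h (.inl ()))
  have h1 := hh _ (congrFun h (.inr (.inl 1)))
  have h2 := hh _ (congrFun h (.inr (.inl 2)))
  have k0 : -v (.inr (.inl 0)) = v (.inr (.inr 0)) := congrFun h (.inr (.inr 0))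
  have k1 := hh _ (congrFun h (.inr (.inr 1)))
  have k2 := hh _ (congrFun h (.inr (.inr 2)))
  rw [w7]
  apply ext7 <;> simp only [mk_a, mk_x0, mk_x1, mk_x2, mk_y0, mk_y1, mk_y2, Pi.smul_apply, smul_eq_mul, mul_zero,
    mul_one, mul_neg, ha, h1, h2, k1, k2, ← k0]

theorem zE_of_tE (h2 : (2 : F) ≠ 0) (h3 : (3 : F) = 0) {v : V7 F} (h : tE h3 v = v) : zE h3 v = v := by
  rw [tE_apply] at h
  rw [eq_smul_of_tL h2 h, map_smul, zE_w]

theorem finrank_ker : finrank F (LinearMap.ker ((tL : V7 F →ₗ[F] V7 F) + 1)) + 1 = 7 := by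
  let f : V7 F →ₗ[F] F :=
    { toFun := fun v => v (.inr (.inl 0)) - v (.inr (.inr 0))
      map_add' := fun u v => by
        show u _ + v _ - (u _ + v _) = _
        ring
      map_smul' := fun c v => by
        show c * v _ - c * v _ = c * _
        ring }
  have hf : f ≠ 0 := by
    intro h
    have h1 := LinearMap.congr_fun h (mk 0 1 0 0 0 0 0)
    have h2 : f (mk 0 1 0 0 0 0 0) = 1 - 0 := rfl
    rw [h2] at h1
    simp at h1
  have hk : LinearMap.ker ((tL : V7 F →ₗ[F] V7 F) + 1) = LinearMap.ker f := by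
    ext v
    rw [LinearMap.mem_ker, LinearMap.mem_ker, LinearMap.add_apply, Module.End.one_apply, tL_apply]
    have hfv : f v = v (.inr (.inl 0)) - v (.inr (.inr 0)) := rfl
    rw [hfv]
    constructor
    · intro h
      have h1 := congrFun h (.inr (.inl 0))
      simp only [Pi.add_apply, mk_x0, Pi.zero_apply] at h1
      linear_combination h1
    · intro h
      apply ext7 <;> simp only [Pi.add_apply, mk_a, mk_x0, mk_x1, mk_x2, mk_y0, mk_y1, mk_y2, Pi.zero_apply]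
      · ring
      · linear_combination h
      · ring
      · ring
      · linear_combination (-1 : F) * h
      · ring
      · ring
  rw [hk]
  have h1 := Module.Dual.finrank_ker_add_one_of_ne_zero (f := f) hf
  rw [h1, Module.finrank_fintype_fun_eq_card]
  rfl

end Cfsg.Agent.H500.AS.Seven
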