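import Mathlib
import Cfsg.Agent.H518.SUIrr
import Cfsg.Agent.H518.SUIso
import Cfsg.Agent.Lib.ThompsonPQ

/-!
# S3943: solvably unique elements of composite order `2 p` (helper500)

`z` of order `p`, `t` an involution commuting with `z`, `z` trivial on the `1`-eigenspace of `t`, the `-1`-eigenspace of
`t` of dimension `p - 1` (not a power of two).

* `centralize_two` : `z` centralises every 2-group normalised by `z` and `t`;
* `centralize_prime` : `z` centralises every normalised group of prime order `ℓ`, `p ∤ ℓ - 1`;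
* `el_two` : `El p (t * z)`.
-/

set_option autoImplicit false

namespace Cfsg.Agent.H500.AS

open Module Cfsg.Agent.H518.DghpFix Cfsg.Agent.H518.DghpPrim Cfsg.Agent.H518.SU

universe u v w

section

variable {F : Type u} [Field F] [Fintype F] {V : Type v} [AddCommGroup V] [Module F V] [FiniteDimensional F V]
  {G : Type w} [Group G] [Finite G]

omit [Fintype F] [FiniteDimensional F V] [Finite G] in
/-- the eigenspace is invariant -/
theorem ker_invariant (φ : G →* (V →ₗ[F] V)) {t g : G} (h : t * g = g * t) (v : V) (hv : v ∈ LinearMap.ker (φ t + 1)) :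
    φ g v ∈ LinearMap.ker (φ t + 1) := by
  rw [LinearMap.mem_ker, LinearMap.add_apply, Module.End.one_apply] at hv ⊢
  have h1 : φ t (φ g v) = φ g (φ t v) := by
    rw [← Module.End.mul_apply, ← map_mul, h, map_mul, Module.End.mul_apply]
  rw [h1, ← map_add, hv, map_zero]

/-- the representation of the centralizer of `t` on the `-1`-eigenspace of `t` -/
noncomputable def rhoW (φ : G →* (V →ₗ[F] V)) (t : G) :
    Subgroup.centralizer ({t} : Set G) →* (LinearMap.ker (φ t + 1) →ₗ[F] LinearMap.ker (φ t + 1)) where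
  toFun g := (φ g).restrict (fun v hv => ker_invariant φ (Subgroup.mem_centralizer_singleton_iff.1 g.2).symm v hv)
  map_one' := by
    ext v
    show φ (1 : G) v = v
    rw [map_one]
    rfl
  map_mul' a b := by
    ext v
    show φ (a * b : G) v = φ a (φ b v)
    rw [map_mul]
    rfl

omit [Fintype F] [FiniteDimensional F V] [Finite G] in
theorem rhoW_apply (φ : G →* (V →ₗ[F] V)) (t : G) (g : Subgroup.centralizer ({t} : Set G))
    (v : LinearMap.ker (φ t + 1)) : ((rhoW φ t g v : LinearMap.ker (φ t + 1)) : V) = φ g v := rfl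

omit [Finite G] in
/-- **The centraliser of the involution.** -/
theorem centralize_cent (φ : G →* (V →ₗ[F] V)) (hφ : Function.Injective φ) (h2F : (2 : F) ≠ 0) {p : ℕ} (hp : p.Prime)
    (hp2 : p ≠ 2) {z t : G} (hz : orderOf z = p) (htt : t * t = 1) (htz : t * z = z * t)
    (hE : ∀ v, φ t v = v → φ z v = v) (hd : finrank F (LinearMap.ker (φ t + 1)) + 1 = p)
    (hk : ¬ ∃ k, finrank F (LinearMap.ker (φ t + 1)) = 2 ^ k) {T : Subgroup G} (hT : IsPGroup 2 T)
    (hzT : ∀ u ∈ T, z * u * z⁻¹ ∈ T) : ∀ u ∈ T, t * u = u * t → z * u = u * z := by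
  classical
  have hfF : Finite F := Finite.of_fintype F
  have hfV : Finite V := Module.finite_of_finite F
  set W := LinearMap.ker (φ t + 1) with hW
  have hfW : Finite W := inferInstance
  have hfL : Finite (W →ₗ[F] W) := Finite.of_injective (fun f : W →ₗ[F] W => (f : W → W)) DFunLike.coe_injective
  have hfU : Finite (W →ₗ[F] W)ˣ := inferInstance
  set C := Subgroup.centralizer ({t} : Set G) with hC
  have hmem : ∀ g : G, g ∈ C ↔ t * g = g * t := fun g => by
    rw [hC, Subgroup.mem_centralizer_singleton_iff]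
    exact eq_comm
  let ρ : C →* (W →ₗ[F] W)ˣ := MonoidHom.toHomUnits (rhoW φ t)
  have hρ : ∀ (g : C) (v : W), (((ρ g : (W →ₗ[F] W)ˣ) : W →ₗ[F] W) v : V) = φ g v := fun g v => rfl
  -- the decomposition
  have hdec : ∀ g : G, (∀ v, φ t v = v → φ g v = v) → (∀ v ∈ W, φ g v = v) → g = 1 := by
    intro g h1 h2
    apply hφ
    rw [map_one]
    ext v
    have htt' : φ t (φ t v) = v := by
      rw [← Module.End.mul_apply, ← map_mul, htt, map_one]; rfl
    have e1 := h1 (v + φ t v) (by rw [map_add, htt', add_comm])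
    have e2 := h2 (v - φ t v) (by
      rw [hW, LinearMap.mem_ker, LinearMap.add_apply, Module.End.one_apply, map_sub, htt']
      abel)
    rw [map_add] at e1
    rw [map_sub] at e2
    have e3 : (2 : F) • φ g v = (2 : F) • v := by
      have : φ g v + φ g (φ t v) + (φ g v - φ g (φ t v)) = v + φ t v + (v - φ t v) := by rw [e1, e2]
      rw [two_smul, two_smul]
      calc φ g v + φ g v = φ g v + φ g (φ t v) + (φ g v - φ g (φ t v)) := by abel
        _ = v + φ t v + (v - φ t v) := this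
        _ = v + v := by abel
    exact smul_right_injective V h2F e3
  have hzC : z ∈ C := (hmem z).2 htz
  have hρz : ρ ⟨z, hzC⟩ ≠ 1 := by
    intro h
    have h1 : z = 1 := hdec z hE fun v hv => by
      have h2 := hρ ⟨z, hzC⟩ ⟨v, hv⟩
      rw [h] at h2
      exact h2.symm
    rw [h1, orderOf_one] at hz
    exact hp.one_lt.ne hz
  have hpf : Fact p.Prime := ⟨hp⟩
  let R : Subgroup (W →ₗ[F] W)ˣ := ρ.range
  let ψ : R →* (W →ₗ[F] W) := (Units.coeHom (W →ₗ[F] W)).comp R.subtype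
  have hψ : Function.Injective ψ := fun a b hab => Subtype.ext (Units.ext hab)
  let z' : R := ρ.rangeRestrict ⟨z, hzC⟩
  have hz' : orderOf z' = p ^ 1 := by
    rw [pow_one]
    refine orderOf_eq_prime ?_ ?_
    · show ρ.rangeRestrict ⟨z, hzC⟩ ^ p = 1
      rw [← map_pow]
      have : (⟨z, hzC⟩ : C) ^ p = 1 := Subtype.ext (by
        show z ^ p = 1
        rw [← hz, pow_orderOf_eq_one])
      rw [this, map_one]
    · intro h
      exact hρz (congrArg Subtype.val h)
  let T' : Subgroup R := (T.subgroupOf C).map ρ.rangeRestrict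
  have hT' : IsPGroup 2 T' := (hT.comap_of_injective C.subtype C.subtype_injective).map _
  have hzT' : ∀ u ∈ T', z' * u * z'⁻¹ ∈ T' := by
    rintro _ ⟨u, hu, rfl⟩
    refine ⟨⟨z, hzC⟩ * u * ⟨z, hzC⟩⁻¹, ?_, ?_⟩
    · exact hzT _ hu
    · rw [map_mul, map_mul, map_inv]
  have hfR : Finite R := inferInstance
  have key := centralize_rep ψ hψ hp hp2 le_rfl Nat.prime_two (Ne.symm hp2) (by exact_mod_cast h2F) hz' hT' hzT'
    (Or.inr ⟨rfl, hd, fun h => hk h.2⟩)
  intro u hu htu
  have huC : u ∈ C := (hmem u).2 htu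
  have h1 := key (ρ.rangeRestrict ⟨u, huC⟩) ⟨⟨u, huC⟩, hu, rfl⟩
  rw [Nat.sub_self, pow_zero, pow_one] at h1
  have h2 : ∀ v ∈ W, φ z (φ u v) = φ u (φ z v) := by
    intro v hv
    have h3 : (z' : (W →ₗ[F] W)ˣ) * (ρ.rangeRestrict ⟨u, huC⟩ : (W →ₗ[F] W)ˣ) =
        (ρ.rangeRestrict ⟨u, huC⟩ : (W →ₗ[F] W)ˣ) * z' := congrArg Subtype.val h1
    have h4 : ((ρ ⟨z, hzC⟩ * ρ ⟨u, huC⟩ : (W →ₗ[F] W)ˣ) : W →ₗ[F] W) ⟨v, hv⟩ =
        ((ρ ⟨u, huC⟩ * ρ ⟨z, hzC⟩ : (W →ₗ[F] W)ˣ) : W →ₗ[F] W) ⟨v, hv⟩ := by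
      have : ρ ⟨z, hzC⟩ * ρ ⟨u, huC⟩ = ρ ⟨u, huC⟩ * ρ ⟨z, hzC⟩ := h3
      rw [this]
    exact congrArg Subtype.val h4
  have h3 : ∀ v, φ t v = v → φ z (φ u v) = φ u (φ z v) := by
    intro v hv
    rw [hE v hv]
    apply hE
    rw [← Module.End.mul_apply, ← map_mul, htu, map_mul, Module.End.mul_apply, hv]
  have h4 : (z * u)⁻¹ * (u * z) = 1 := by
    refine hdec _ (fun v hv => ?_) (fun v hv => ?_)
    · have h5 : φ (u * z) v = φ (z * u) v := by
        rw [map_mul, map_mul, Module.End.mul_apply, Module.End.mul_apply, h3 v hv]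
      rw [map_mul, Module.End.mul_apply, h5, ← Module.End.mul_apply, ← map_mul, inv_mul_cancel, map_one]
      rfl
    · have h5 : φ (u * z) v = φ (z * u) v := by
        rw [map_mul, map_mul, Module.End.mul_apply, Module.End.mul_apply, h2 v hv]
      rw [map_mul, Module.End.mul_apply, h5, ← Module.End.mul_apply, ← map_mul, inv_mul_cancel, map_one]
      rfl
  exact inv_mul_eq_one.1 h4

/-- **2-groups.** -/
theorem centralize_two (φ : G →* (V →ₗ[F] V)) (hφ : Function.Injective φ) (h2F : (2 : F) ≠ 0) {p : ℕ} (hp : p.Prime)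
    (hp2 : p ≠ 2) {z t : G} (hz : orderOf z = p) (htt : t * t = 1) (htz : t * z = z * t)
    (hE : ∀ v, φ t v = v → φ z v = v) (hd : finrank F (LinearMap.ker (φ t + 1)) + 1 = p)
    (hk : ¬ ∃ k, finrank F (LinearMap.ker (φ t + 1)) = 2 ^ k) {T : Subgroup G} (hT : IsPGroup 2 T)
    (hzT : ∀ u ∈ T, z * u * z⁻¹ ∈ T) (htT : ∀ u ∈ T, t * u * t⁻¹ ∈ T) : ∀ u ∈ T, z * u = u * z := by
  have h2 : Fact (Nat.Prime 2) := ⟨Nat.prime_two⟩
  have hcc := centralize_cent φ hφ h2F hp hp2 hz htt htz hE hd hk hT hzT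
  have hnorm : ∀ g : G, (∀ u ∈ T, g * u * g⁻¹ ∈ T) → g ∈ Subgroup.normalizer (T : Set G) := by
    intro g hg
    rw [Subgroup.mem_normalizer_iff]
    intro h
    refine ⟨fun hh => hg h hh, fun hh => ?_⟩
    have hfin : Finite T := inferInstance
    have hinj : Function.Injective (fun u : T => (⟨g * u * g⁻¹, hg u u.2⟩ : T)) := by
      intro a b hab
      have h1 := congrArg Subtype.val hab
      exact Subtype.ext (mul_left_cancel (mul_right_cancel h1))
    obtain ⟨u, hu⟩ := (Finite.injective_iff_surjective.1 hinj) ⟨g * h * g⁻¹, hh⟩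
    have h1 : g * u * g⁻¹ = g * h * g⁻¹ := congrArg Subtype.val hu
    have h2 : (u : G) = h := mul_left_cancel (mul_right_cancel h1)
    rw [← h2]
    exact u.2
  have key := Lib.ThompsonPQ.thompson_p_times_q 2 (Subgroup.zpowers t) (Subgroup.zpowers z) T ?_ ?_ hT ?_ ?_ ?_ ?_
  · intro u hu
    have h1 := key (Subgroup.mem_zpowers z)
    rw [Subgroup.mem_centralizer_iff] at h1
    exact (h1 u hu).symm
  · rintro ⟨x, hx⟩
    obtain ⟨k, rfl⟩ := Subgroup.mem_zpowers_iff.1 hx
    refine ⟨1, Subtype.ext ?_⟩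
    show (t ^ k) ^ 2 ^ 1 = 1
    rw [pow_one, ← zpow_natCast, ← zpow_mul, mul_comm, zpow_mul, zpow_natCast, pow_two, htt, one_zpow]
  · rw [Nat.card_zpowers, hz]
    exact (Nat.coprime_primes hp Nat.prime_two).2 hp2
  · rw [Subgroup.zpowers_le, Subgroup.mem_centralizer_iff]
    intro x hx
    obtain ⟨k, rfl⟩ := Subgroup.mem_zpowers_iff.1 hx
    exact ((show Commute t z from htz).zpow_right k).eq.symm
  · rw [Subgroup.zpowers_le]
    exact hnorm t htT
  · rw [Subgroup.zpowers_le]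
    exact hnorm z hzT
  · rintro u ⟨hu, huc⟩
    rw [Subgroup.mem_centralizer_iff]
    intro x hx
    obtain ⟨k, rfl⟩ := Subgroup.mem_zpowers_iff.1 hx
    have h1 : t * u = u * t := (Subgroup.mem_centralizer_iff.1 huc) t (Subgroup.mem_zpowers t)
    exact ((show Commute z u from hcc u hu h1).zpow_left k).eq

end

/-- **Groups of prime order.** -/
theorem centralize_prime {G : Type u} [Group G] [Finite G] {p ℓ : ℕ} (hp : p.Prime) (hℓ : ℓ.Prime) (hpl : ¬ p ∣ ℓ - 1)
    {z : G} (hz : orderOf z = p) {T : Subgroup G} (hT : Nat.card T ∣ ℓ) (hzT : ∀ u ∈ T, z * u * z⁻¹ ∈ T) :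
    ∀ u ∈ T, z * u = u * z := by
  rcases (Nat.dvd_prime hℓ).1 hT with h | h
  · intro u hu
    have h1 : T = ⊥ := Subgroup.card_eq_one.1 h
    rw [h1, Subgroup.mem_bot] at hu
    rw [hu, mul_one, one_mul]
  · have hpf : Fact p.Prime := ⟨hp⟩
    have hlf : Fact ℓ.Prime := ⟨hℓ⟩
    have hcyc : IsCyclic T := isCyclic_of_prime_card h
    have hinj : Function.Injective (fun u : T => (⟨z * u * z⁻¹, hzT u u.2⟩ : T)) := by
      intro a b hab
      have h1 := congrArg Subtype.val hab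
      exact Subtype.ext (mul_left_cancel (mul_right_cancel h1))
    let α : MulAut T := MulEquiv.ofBijective
      { toFun := fun u : T => (⟨z * u * z⁻¹, hzT u u.2⟩ : T)
        map_one' := Subtype.ext (by show z * 1 * z⁻¹ = 1; group)
        map_mul' := fun a b => Subtype.ext (by
          show z * (a * b) * z⁻¹ = z * a * z⁻¹ * (z * b * z⁻¹)
          group) : T →* T } (Finite.injective_iff_bijective.1 hinj)
    have hα : ∀ u : T, ((α u : T) : G) = z * u * z⁻¹ := fun u => rfl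
    have hαk : ∀ (k : ℕ) (u : T), (((α ^ k) u : T) : G) = z ^ k * u * (z ^ k)⁻¹ := by
      intro k
      induction k with
      | zero => intro u; simp
      | succ k ih =>
        intro u
        rw [pow_succ, MulAut.mul_apply, ih, hα, pow_succ]
        group
    have h1 : α ^ p = 1 := by
      ext u
      rw [hαk, ← hz, pow_orderOf_eq_one]
      simp
    have h2 : orderOf α ∣ ℓ - 1 := by
      have h3 : Nat.card (MulAut T) = ℓ - 1 := by
        rw [IsCyclic.card_mulAut, h, Nat.totient_prime hℓ]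
      rw [← h3]
      exact orderOf_dvd_natCard α
    have h3 : orderOf α ∣ p := orderOf_dvd_of_pow_eq_one h1
    have h4 : α = 1 := by
      rcases (Nat.dvd_prime hp).1 h3 with h5 | h5
      · exact orderOf_eq_one_iff.1 h5
      · rw [h5] at h2
        exact absurd h2 hpl
    intro u hu
    have h5 : z * u * z⁻¹ = u := by
      have h6 := hα ⟨u, hu⟩
      rw [h4] at h6
      exact h6.symm
    exact mul_inv_eq_iff_eq_mul.1 h5

section

variable {F : Type u} [Field F] [Fintype F] {V : Type v} [AddCommGroup V] [Module F V] [FiniteDimensional F V]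
  {G : Type w} [Group G] [Finite G]

/-- **Solvably unique elements of order `2 p`.** -/
theorem el_two (φ : G →* (V →ₗ[F] V)) (hφ : Function.Injective φ) (h2F : (2 : F) ≠ 0) {p : ℕ} (hp : p.Prime)
    (hp2 : p ≠ 2) (hpF : ¬ p ∣ Fintype.card F) (h2e : finrank F V < 2 * orderOf ((Fintype.card F : ℕ) : ZMod p))
    {z t : G} (hz : orderOf z = p) (htt : t * t = 1) (htz : t * z = z * t)
    (hE : ∀ v, φ t v = v → φ z v = v) (hd : finrank F (LinearMap.ker (φ t + 1)) + 1 = p)
    (hk : ¬ ∃ k, finrank F (LinearMap.ker (φ t + 1)) = 2 ^ k)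
    (hodd : ∀ ℓ : ℕ, ℓ.Prime → ℓ ≠ 2 → ℓ ≠ p → ¬ ℓ ∣ Fintype.card F → ∀ T : Subgroup G, IsPGroup ℓ T →
      (∀ u ∈ T, z * u * z⁻¹ ∈ T) → ∀ u ∈ T, z * u = u * z)
    (hcore : ∀ M : Subgroup G, Group.IsSolvable M → z ∈ M → ∀ ℓ : ℕ, ℓ.Prime → ℓ ∣ Fintype.card F →
      ∀ P : Subgroup G, P ≤ M → (∀ g ∈ M, ∀ n ∈ P, g * n * g⁻¹ ∈ P) → IsPGroup ℓ P → P = ⊥) : El p (t * z) := by
  intro M hM hyM u huM hu
  -- `z`, `t` are powers of `t z`
  have hpow : ∀ k : ℕ, (t * z) ^ k = t ^ k * z ^ k := fun k => (show Commute t z from htz).mul_pow k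
  have ht2 : t ^ 2 = 1 := by rw [pow_two, htt]
  have hzp : z ^ p = 1 := by rw [← hz, pow_orderOf_eq_one]
  have htM : t ∈ M := by
    have h1 : (t * z) ^ p = t := by
      obtain ⟨j, hj⟩ := hp.odd_of_ne_two hp2
      rw [hpow, hzp, mul_one, hj, pow_succ, pow_mul, ht2, one_pow, one_mul]
    rw [← h1]
    exact pow_mem hyM p
  have hzM : z ∈ M := by
    have h1 : z = t * (t * z) := by rw [← mul_assoc, htt, one_mul]
    rw [h1]
    exact mul_mem htM hyM
  have hzy : z ∈ Subgroup.zpowers (t * z) := by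
    obtain ⟨j, hj⟩ := hp.odd_of_ne_two hp2
    have h1 : (t * z) ^ (p + 1) = z := by
      rw [hpow, pow_succ z, hzp, one_mul, hj, show 2 * j + 1 + 1 = 2 * (j + 1) by ring, pow_mul, ht2, one_pow, one_mul]
    have h2 := Subgroup.npow_mem_zpowers (t * z) (p + 1)
    rwa [h1] at h2
  have hy' : orderOf (⟨z, hzM⟩ : M) = p ^ 1 := by rw [Subgroup.orderOf_mk, hz, pow_one]
  have key := solv_unique (G := M) hp le_rfl hy' (fun ℓ hℓ hℓp T hT hTt u hu => ?_) (fun u v hu hv huv => ?_)
    ⟨u, huM⟩ (by rw [Subgroup.orderOf_mk, hu])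
  · obtain ⟨k, hk⟩ := Subgroup.mem_zpowers_iff.1 key
    have h1 : z ^ k = u := congrArg Subtype.val hk
    rw [← h1]
    exact zpow_mem hzy k
  · rw [Nat.sub_self, pow_zero, pow_one]
    have hTz : ∀ g ∈ M, ∀ u ∈ T.map M.subtype, g * u * g⁻¹ ∈ T.map M.subtype := by
      rintro g hg _ ⟨u, hu, rfl⟩
      exact ⟨⟨g, hg⟩ * u * ⟨g, hg⟩⁻¹, hT.conj_mem u hu _, rfl⟩
    by_cases hℓF : ℓ ∣ Fintype.card F
    · have h1 := hcore M hM hzM ℓ hℓ hℓF (T.map M.subtype) (by
        rintro _ ⟨u, hu, rfl⟩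
        exact u.2) hTz (hTt.map _)
      have h2 : (u : G) ∈ T.map M.subtype := ⟨u, hu, rfl⟩
      rw [h1, Subgroup.mem_bot] at h2
      have h3 : u = 1 := Subtype.ext h2
      rw [h3, mul_one, one_mul]
    · by_cases hℓ2 : ℓ = 2
      · subst hℓ2
        have h1 := centralize_two φ hφ h2F hp hp2 hz htt htz hE hd hk (hTt.map M.subtype) (hTz z hzM) (hTz t htM) u
          ⟨u, hu, rfl⟩
        exact Subtype.ext h1
      · have h1 := hodd ℓ hℓ hℓ2 hℓp hℓF (T.map M.subtype) (hTt.map _) (hTz z hzM) u ⟨u, hu, rfl⟩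
        exact Subtype.ext h1
  · have hu' : orderOf (u : G) = p := by rw [← hu]; exact Subgroup.orderOf_coe u
    have hv' : orderOf (v : G) = p := by rw [← hv]; exact Subgroup.orderOf_coe v
    have huv' : (u : G) * v = v * u := congrArg Subtype.val huv
    have hcomm := commuting_of_rep φ hφ hp hpF h2e (u : G) (v : G) hu' hv' huv'
    obtain ⟨k, hk⟩ := Subgroup.mem_zpowers_iff.1 hcomm
    exact Subgroup.mem_zpowers_iff.2 ⟨k, Subtype.ext hk⟩

end

end Cfsg.Agent.H500.AS
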