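import Mathlib
import Cfsg.Agent.H500.AS.TwoPart
import Cfsg.Agent.H500.AS.SevenElt
import Cfsg.Agent.H500.AS.K1
import Cfsg.Agent.H479.AS.CritLt
import Cfsg.Agent.H489.AS.Cent
import Cfsg.Agent.H489.AS.Base
import Cfsg.Agent.H518.SUSevenFin
import Cfsg.Agent.S2144

/-!
# S3943: `PΩ_7(3)` (helper500)

`as2_oseven_three`.
-/

set_option autoImplicit false
set_option linter.unusedSectionVars false

namespace Cfsg.Agent.H500.AS.Seven

open Module QuadraticMap Cfsg.Agent.LieClassical.OrthCore Cfsg.Agent.LieClassical.OrthTrans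
  Cfsg.Agent.LieClassical.OrthSimple
  Cfsg.Agent.ClassicalGeometry.OrthAut1 Cfsg.Agent.ClassicalGeometry.OrthSemi
  Cfsg.Agent.AutOrth.Main Cfsg.Agent.H518.DghpFix Cfsg.Agent.H518.DghpPrim Cfsg.Agent.H518.SU
  Cfsg.Agent.H489.AS Cfsg.Agent.H479.AS Cfsg.Agent.H965.AS

variable {F : Type} [Field F] [Fintype F]

theorem three_eq_zero (hF : Fintype.card F = 3) : (3 : F) = 0 := by
  have h := Nat.cast_card_eq_zero F
  rw [hF] at h
  exact_mod_cast h

theorem two_ne_zero' (hF : Fintype.card F = 3) : (2 : F) ≠ 0 := by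
  intro h
  have h3 := three_eq_zero hF
  have : (1 : F) = 0 := by linear_combination h3 - h
  exact one_ne_zero this

theorem ord_three : orderOf ((3 : ℕ) : ZMod 7) = 6 :=
  orderOf_eq_of (by norm_num) (by norm_num) (by norm_num) fun i h1 h2 => by
    interval_cases i <;> norm_num

theorem good7 (hF : Fintype.card F = 3) : Good (Q7 F) := by
  show Good (LieClassical.OrthForms.oddForm 3 F)
  rw [oddForm_eq]
  exact good_odd (by norm_num) (two_ne_zero' hF)

/-- the order, up to 2-parts -/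
theorem card_E (hF : Fintype.card F = 3) : ∃ c : ℕ, Nat.card (E (Q7 F)) = Nat.card (P (Q7 F)) * c ∧
    c = Nat.card (Subgroup.center (E (Q7 F))) ∧ (∀ p : ℕ, p.Prime → p ≠ 2 → ¬ p ∣ c) ∧
    2 * Nat.card (P (Q7 F)) = 2 ^ 10 * 3 ^ 9 * 455 := by
  have hG := good7 hF
  have h2F := two_ne_zero' hF
  refine ⟨_, Subgroup.card_eq_card_quotient_mul_card_subgroup _, rfl, fun p hp hp2 => ?_, ?_⟩
  · have hc0 := not_dvd_center_omega (F := F) (LieClassical.OmegaReindex.quadOdd_nondegenerate (m := 3) h2F)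
      (by simp) (LieClassical.OmegaReindex.quadOdd_isotropic (F := F) (by norm_num)) hp hp2
    rw [LieClassical.OmegaReindex.coe_quadOdd, ← LieClassical.OrthForms.coe_oddForm] at hc0
    rwa [← Nat.card_congr (Subgroup.centerCongr (oe hG)).toEquiv]
  · have hcard := Cfsg.Agent.S0292.result hF (by decide) 3 le_rfl
    rw [← LieClassical.OrthForms.coe_oddForm, Nat.card_congr (pe hG).toEquiv] at hcard
    rw [hcard]
    simp only [Finset.prod_range_succ, Finset.prod_range_zero]
    norm_num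

theorem finite_E : Finite (E (Q7 F)) := by
  have : Finite (V7 F ≃ₗ[F] V7 F) :=
    Finite.of_injective (fun g : V7 F ≃ₗ[F] V7 F => (g : V7 F → V7 F)) DFunLike.coe_injective
  infer_instance

/-- primes dividing the order -/
theorem prime_facts (hF : Fintype.card F = 3) {ℓ : ℕ} (hℓ : ℓ.Prime) (h2 : ℓ ≠ 2) (h3 : ℓ ≠ 3) :
    ¬ ℓ ^ 2 ∣ Nat.card (E (Q7 F)) ∧ (ℓ ∣ Nat.card (E (Q7 F)) → ℓ = 5 ∨ ℓ = 7 ∨ ℓ = 13) := by
  obtain ⟨c, h1, -, hc, hP⟩ := card_E hF
  have hcop : ∀ k, Nat.Coprime (ℓ ^ k) c := fun k => Nat.Coprime.pow_left k ((Nat.Prime.coprime_iff_not_dvd hℓ).2 (hc ℓ hℓ h2))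
  have hcop2 : ∀ k, Nat.Coprime (ℓ ^ k) (2 ^ 10 * 3 ^ 9) := fun k => by
    refine Nat.Coprime.pow_left k (Nat.Coprime.mul_right ?_ ?_)
    · exact Nat.Coprime.pow_right _ ((Nat.coprime_primes hℓ Nat.prime_two).2 h2)
    · exact Nat.Coprime.pow_right _ ((Nat.coprime_primes hℓ Nat.prime_three).2 h3)
  have key : ∀ k, ℓ ^ k ∣ Nat.card (E (Q7 F)) → ℓ ^ k ∣ 455 := by
    intro k hk
    rw [h1] at hk
    have h4 := (hcop k).dvd_of_dvd_mul_right hk
    have h5 : ℓ ^ k ∣ 2 ^ 10 * 3 ^ 9 * 455 := by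
      rw [← hP]
      exact Dvd.dvd.mul_left h4 2
    exact (hcop2 k).dvd_of_dvd_mul_left h5
  have hlist : ∀ d, d ∣ 455 → d ∈ Nat.divisors 455 := fun d hd => Nat.mem_divisors.2 ⟨hd, by norm_num⟩
  have hdiv : Nat.divisors 455 = {1, 5, 7, 13, 35, 65, 91, 455} := by decide +kernel
  constructor
  · intro hd
    have h4 := hlist _ (key 2 hd)
    rw [hdiv] at h4
    have h5 : ℓ < 22 := by
      by_contra hcon
      push Not at hcon
      have h6 : 22 ^ 2 ≤ ℓ ^ 2 := Nat.pow_le_pow_left hcon 2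
      have h7 := Nat.le_of_dvd (by norm_num) (key 2 hd)
      omega
    interval_cases ℓ <;> simp at h4
    all_goals exact absurd hℓ (by norm_num)
  · intro hd
    have h4 := key 1 (by rwa [pow_one])
    rw [pow_one] at h4
    have h5 := hlist _ h4
    rw [hdiv] at h5
    simp only [Finset.mem_insert, Finset.mem_singleton] at h5
    rcases h5 with h | h | h | h | h | h | h | h
    · rw [h] at hℓ; exact absurd hℓ (by norm_num)
    · exact Or.inl h
    · exact Or.inr (Or.inl h)
    · exact Or.inr (Or.inr h)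
    · rw [h] at hℓ; exact absurd hℓ (by norm_num)
    · rw [h] at hℓ; exact absurd hℓ (by norm_num)
    · rw [h] at hℓ; exact absurd hℓ (by norm_num)
    · rw [h] at hℓ; exact absurd hℓ (by norm_num)

/-- the elements in `E Q` -/
def tt (hF : Fintype.card F = 3) : E (Q7 F) :=
  ⟨tE (three_eq_zero hF), sq_mem_E (good7 hF) (gE_mem (three_eq_zero hF))⟩

def zz (hF : Fintype.card F = 3) : E (Q7 F) :=
  ⟨zE (three_eq_zero hF), odd_mem_E (good7 hF) (zE_mem (three_eq_zero hF)) (by decide) (zE_seven (three_eq_zero hF))⟩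

theorem order_zz (hF : Fintype.card F = 3) : orderOf (zz hF) = 7 := by
  have : Fact (Nat.Prime 7) := ⟨by norm_num⟩
  exact orderOf_eq_prime (Subtype.ext (zE_seven _)) fun h => zE_ne_one _ (congrArg Subtype.val h)

theorem finrank7 : finrank F (V7 F) = 7 := by
  rw [Module.finrank_fintype_fun_eq_card]; rfl

theorem h2e7 (hF : Fintype.card F = 3) :
    finrank F (V7 F) < 2 * orderOf ((Fintype.card F : ℕ) : ZMod 7) := by
  rw [finrank7, hF, ord_three]
  norm_num

/-- **The element of order 14.** -/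
theorem el_seven (hF : Fintype.card F = 3) : El 7 (tt hF * zz hF) := by
  have h3 := three_eq_zero hF
  have h2F := two_ne_zero' hF
  have hG := good7 hF
  have hfE : Finite (E (Q7 F)) := finite_E
  have hp : Nat.Prime 7 := by norm_num
  have hpF : ¬ 7 ∣ Fintype.card F := by rw [hF]; norm_num
  have ht : eHom (Q7 F) (tt hF) = tL := LinearMap.ext fun v => tE_apply h3 v
  refine el_two (eHom (Q7 F)) eHom_injective h2F hp (by norm_num) hpF (h2e7 hF) (order_zz hF)
    (Subtype.ext (tE_sq h3)) (Subtype.ext (tE_zE h3)) (fun v hv => ?_) ?_ ?_ ?_ ?_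
  · rw [ht] at hv
    exact zE_of_tE h2F h3 (by rw [tE_apply]; exact hv)
  · rw [ht]
    exact finrank_ker
  · rw [ht]
    rintro ⟨k, hk⟩
    have h4 := finrank_ker (F := F)
    rw [hk] at h4
    have h5 : 2 ^ k = 6 := by omega
    have h6 : k < 3 := by
      by_contra hcon
      push Not at hcon
      have := Nat.pow_le_pow_right (n := 2) (by norm_num) hcon
      omega
    interval_cases k <;> omega
  · intro ℓ hℓ h2 h7 hℓF T hT hzT
    obtain ⟨e1, e2⟩ := prime_facts hF hℓ h2 (fun h => hℓF (by rw [hF, h]))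
    have : Fact ℓ.Prime := ⟨hℓ⟩
    obtain ⟨k, hk⟩ := IsPGroup.iff_card.1 hT
    have hd : ℓ ^ k ∣ Nat.card (E (Q7 F)) := by
      rw [← hk]
      exact Subgroup.card_subgroup_dvd_card T
    have hk1 : k ≤ 1 := by
      by_contra hcon
      exact e1 ((pow_dvd_pow ℓ (by omega)).trans hd)
    rcases Nat.lt_or_ge k 1 with h | h
    · have hk0 : k = 0 := by omega
      rw [hk0, pow_zero] at hk
      refine centralize_prime hp Nat.prime_five (by norm_num) (order_zz hF) (by rw [hk]; exact one_dvd _) hzT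
    · have hk0 : k = 1 := by omega
      rw [hk0, pow_one] at hk hd
      rcases e2 hd with h8 | h8 | h8
      · exact centralize_prime hp hℓ (by rw [h8]; norm_num) (order_zz hF) (by rw [hk]) hzT
      · exact absurd h8 h7
      · exact centralize_prime hp hℓ (by rw [h8]; norm_num) (order_zz hF) (by rw [hk]) hzT
  · refine core_fix_one (a := 1) (eHom (Q7 F)) eHom_injective (frm_polar_of hG.nondeg)
      (fun g u v => polar_map (E_le_O g.2) u v) hp hpF (h2e7 hF) ?_ le_rfl ?_
    · rw [finrank7, hF, ord_three]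
    · rw [order_zz hF, pow_one]

theorem zz_mem (hF : Fintype.card F = 3) : zz hF ∈ Subgroup.zpowers (tt hF * zz hF) := by
  have hc : Commute (tt hF) (zz hF) := Subtype.ext (tE_zE (three_eq_zero hF))
  have ht : tt hF ^ 2 = 1 := by
    rw [pow_two]
    exact Subtype.ext (tE_sq (three_eq_zero hF))
  have hz : zz hF ^ 7 = 1 := by rw [← order_zz hF, pow_orderOf_eq_one]
  have h1 : (tt hF * zz hF) ^ 8 = zz hF := by
    rw [hc.mul_pow, show (8 : ℕ) = 2 * 4 by norm_num, pow_mul (tt hF), ht, one_pow, one_mul,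
      show 2 * 4 = 7 + 1 by norm_num, pow_succ, hz, one_mul]
  have h2 := Subgroup.npow_mem_zpowers (tt hF * zz hF) 8
  rwa [h1] at h2

theorem cent_E (hF : Fintype.card F = 3) (z : E (Q7 F)) (hz : orderOf z = 7) :
    Nat.card (Subgroup.centralizer ({z} : Set (E (Q7 F)))) ≤ 56 := by
  have hfE : Finite (E (Q7 F)) := finite_E
  have hG := good7 hF
  have hp : Nat.Prime 7 := by norm_num
  have hpF : ¬ 7 ∣ Fintype.card F := by rw [hF]; norm_num
  have hz7 : z ^ 7 = 1 := by rw [← hz, pow_orderOf_eq_one]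
  have h1 := cent_le (eHom (Q7 F)) eHom_injective (frm_polar_of hG.nondeg)
    (fun x y z => polar_add_left (Q7 F) x y z) (RingHom.id F) (fun c x y => by
      show polar (Q7 F) (c • x) y = c * polar (Q7 F) x y
      rw [polar_smul_left, smul_eq_mul]) (fun g u v => polar_map (E_le_O g.2) u v) hp hpF (h2e7 hF) hz (Q := 27)
    (by rw [hF, ord_three]; norm_num)
  have h2 : finrank F (fixS (eHom (Q7 F) z)) + 6 = finrank F (V7 F) := by
    refine finrank_fixS_add hp (a := 1) hpF ?_ ?_ (by rw [hF, ord_three]) (by rw [finrank7]; norm_num)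
    · rw [pow_one, ← map_pow, hz7, map_one]
    · intro h
      have h3 : z = 1 := eHom_injective (by rw [h, map_one])
      rw [h3, orderOf_one] at hz
      omega
  rw [finrank7] at h2
  have h3 := card_K1_one eHom_injective (p := 7) (cast_ne_zero_of_not_dvd hp hpF) hz7
    (show finrank F (fixS (eHom (Q7 F) z)) = 1 by omega)
  rw [hF] at h3
  calc _ ≤ (27 + 1) * Nat.card (K1 (eHom (Q7 F)) z) := h1
    _ ≤ (27 + 1) * (3 - 1) := Nat.mul_le_mul_left _ h3
    _ = 56 := by norm_num

/-- **`PΩ_7(3)`.** -/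
theorem as2_P (hF : Fintype.card F = 3) (hna : ¬ IsMulCommutative (P (Q7 F)))
    (hout : ¬ 7 ∣ Nat.card (Cfsg.Out (P (Q7 F)))) : AS2 (P (Q7 F)) := by
  have hfE : Finite (E (Q7 F)) := finite_E
  have hG := good7 hF
  have hs : IsSimpleGroup (P (Q7 F)) := good_isSimpleGroup hG
  have hfP : Finite (P (Q7 F)) := inferInstanceAs (Finite (E (Q7 F) ⧸ Subgroup.center (E (Q7 F))))
  have hp : Nat.Prime 7 := by norm_num
  obtain ⟨c, hc1, hc2, hc3, -⟩ := card_E hF
  have hc7 : ¬ 7 ∣ Nat.card (Subgroup.center (E (Q7 F))) := by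
    rw [← hc2]
    exact hc3 7 hp (by norm_num)
  let π : E (Q7 F) →* P (Q7 F) := QuotientGroup.mk' (Subgroup.center (E (Q7 F)))
  have hπ : Function.Surjective π := QuotientGroup.mk'_surjective _
  have hker : π.ker = Subgroup.center (E (Q7 F)) := QuotientGroup.ker_mk' _
  have hk7 : ¬ 7 ∣ Nat.card π.ker := by rwa [hker]
  have hks : Group.IsSolvable π.ker := by
    rw [hker]
    exact Group.isSolvable_of_comm fun a b => Subtype.ext ((Subgroup.mem_center_iff.1 b.2) a)
  have hel := El.map hp (el_seven hF) π hπ hks hk7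
  have hoz : orderOf (π (zz hF)) = 7 := by
    have := orderOf_map (a := 1) hp (by rw [order_zz hF, pow_one]) π hk7
    rwa [pow_one] at this
  have hmem : π (zz hF) ∈ Subgroup.zpowers (π (tt hF * zz hF)) := by
    obtain ⟨k, hk⟩ := Subgroup.mem_zpowers_iff.1 (zz_mem hF)
    exact Subgroup.mem_zpowers_iff.2 ⟨k, by rw [← map_zpow, hk]⟩
  have hsu : SUg 7 (π (tt hF * zz hF)) := by
    intro M hM hyM A B hA hB hAc hBc
    have hf7 : Fact (Nat.Prime 7) := ⟨hp⟩
    have key : ∀ A : Subgroup (P (Q7 F)), A ≤ M → Nat.card A = 7 → A ≤ Subgroup.zpowers (π (tt hF * zz hF)) := by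
      intro A hA hAc a ha
      by_cases ha1 : a = 1
      · rw [ha1]
        exact one_mem _
      refine hel M hM hyM a (hA ha) ?_
      have h1 : (⟨a, ha⟩ : A) ^ 7 = 1 := by rw [← hAc]; exact pow_card_eq_one'
      exact orderOf_eq_prime (congrArg Subtype.val h1) ha1
    exact Cfsg.Agent.OddOrderLocal.CyclicSub.eq_of_card_eq_of_le_cyclic
      (Z := Subgroup.zpowers (π (tt hF * zz hF))) inferInstance (key A hA hAc) (key B hB hBc) (by rw [hAc, hBc])
  have hr : GRow (P (Q7 F)) 7 (π (tt hF * zz hF)) (π (zz hF)) :=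
    { hp := hp
      h5 := by norm_num
      ord := hoz
      mem := hmem
      su := hsu
      full := fun h => (prime_facts hF hp (by norm_num) (by norm_num)).1 (by
        rw [hc1]
        exact Dvd.dvd.mul_right h c)
      out := hout }
  refine of_lt_g hna hr (c := 56) (b := 351) ?_ ?_ (by norm_num)
  · have h1 := cent_quot hp hc7 (cent_E hF) (π (zz hF)) hoz
    exact le_trans (Nat.le_mul_of_pos_right _ Nat.card_pos) h1
  · intro H hH
    have e := pe hG
    have h1 := (Cfsg.Agent.S2144.result hF 3 le_rfl).1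
    rw [← LieClassical.OrthForms.coe_oddForm] at h1
    have h2 := h1 (H.comap e.toMonoidHom) (fun h => hH (by
      rw [eq_top_iff]
      intro x _
      obtain ⟨u, rfl⟩ := e.surjective x
      have h3 : u ∈ H.comap e.toMonoidHom := by rw [h]; trivial
      exact h3))
    rw [Subgroup.index_comap_of_surjective _ e.surjective] at h2
    exact le_trans (by norm_num) h2

/-- **`PΩ_7(3)`.** -/
theorem as2_oseven_three (hF : Fintype.card F = 3)
    (hZ : Subgroup.center (Cfsg.POmega F (Cfsg.quadFormOdd 3 F)) = ⊥) :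
    AS2 (Cfsg.POmega F (Cfsg.quadFormOdd 3 F)) := by
  have hG := good7 hF
  have hout : Nat.card (Cfsg.Out (Cfsg.POmega F (Cfsg.quadFormOdd 3 F))) = 2 * 1 :=
    H163.PG.card_out_oodd (f := 1) Nat.prime_three le_rfl (by rw [hF, pow_one]) (by rw [hF]; decide) le_rfl hZ
  rw [← LieClassical.OrthForms.coe_oddForm] at hout hZ ⊢
  have e := pe hG
  have hs : IsSimpleGroup (P (Q7 F)) := good_isSimpleGroup hG
  refine AS2.congr e.symm (as2_P hF ?_ ?_)
  · intro h
    obtain ⟨x, hx⟩ := exists_ne (1 : P (Q7 F))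
    have h1 : e.symm x ∈ Subgroup.center (Cfsg.POmega F ⇑(LieClassical.OrthForms.oddForm 3 F)) := by
      rw [Subgroup.mem_center_iff]
      intro g
      apply e.injective
      rw [map_mul, map_mul]
      exact isMulCommutative_iff.1 h _ _
    rw [hZ, Subgroup.mem_bot] at h1
    apply hx
    rw [← e.apply_symm_apply x, h1, map_one]
  · rw [← card_out_dvd_congr e, hout]
    norm_num

/-- in the form of `Exceptions` -/
theorem as2_exc_oseven_three {K : Type*} [Group K] [IsSimpleGroup K] (hna : ¬ IsMulCommutative K)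
    (hF : Fintype.card F = 3) (e : Nonempty (K ≃* Cfsg.POmega F (Cfsg.quadFormOdd 3 F))) : AS2 K := by
  obtain ⟨e⟩ := e
  refine AS2.congr e.symm (as2_oseven_three hF ?_)
  have hs : IsSimpleGroup (Cfsg.POmega F (Cfsg.quadFormOdd 3 F)) := e.symm.isSimpleGroup
  rcases Subgroup.Normal.eq_bot_or_eq_top (H := Subgroup.center (Cfsg.POmega F (Cfsg.quadFormOdd 3 F))) inferInstance
    with h1 | h1
  · exact h1
  · exfalso
    apply hna
    refine isMulCommutative_iff.2 fun a b => e.injective ?_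
    rw [map_mul, map_mul]
    have h2 : e b ∈ Subgroup.center (Cfsg.POmega F (Cfsg.quadFormOdd 3 F)) := by rw [h1]; trivial
    exact Subgroup.mem_center_iff.1 h2 _

end Cfsg.Agent.H500.AS.Seven
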