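import Mathlib
import Cfsg.Agent.H489.AS.Cent
import Cfsg.Agent.H518.SUOrth
import Cfsg.Agent.H500.AS.K1
import Cfsg.Agent.S2143
import Cfsg.Agent.S2144
import Cfsg.Agent.S2147

/-!
# S3943: the counting data for `PΩ_{2m+1}(q)`, `PΩ⁻_{2m}(q)` (helper500)

`cnt_minus`, `cnt_odd`.
-/

set_option autoImplicit false

universe u v w

namespace Cfsg.Agent.H500.AS

open Module Cfsg.Agent.H518.DghpFix Cfsg.Agent.H518.DghpPrim Cfsg.Agent.H518.DghpMat Cfsg.Agent.H518.SU QuadraticMap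
open Cfsg.Agent.LieClassical.OmegaReindex Cfsg.Agent.H489.AS

/-- The central quotient. -/
theorem cnt_center {G : Type u} [Group G] [Finite G] {g p a : ℕ} (hp : p.Prime) (hp5 : 5 ≤ p) (ha : 1 ≤ a)
    (hg : ¬ p ∣ g) (hG : ¬ p ^ (a + 1) ∣ Nat.card G) {y : G} (hy : orderOf y = p ^ a) (hel : El p y)
    (hc : ¬ p ∣ Nat.card (Subgroup.center G)) {c b : ℕ}
    (hcent : ∀ z : G, orderOf z = p → Nat.card (Subgroup.centralizer ({z} : Set G)) ≤ c)
    (hb : ∀ H : Subgroup (G ⧸ Subgroup.center G), H ≠ ⊤ → b ≤ H.index) (hcb : 2 * c ≤ b) :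
    Cnt g (G ⧸ Subgroup.center G) := by
  have hk : (QuotientGroup.mk' (Subgroup.center G)).ker = Subgroup.center G := QuotientGroup.ker_mk' _
  have hk' : ¬ p ∣ Nat.card (QuotientGroup.mk' (Subgroup.center G)).ker := by rwa [hk]
  refine ⟨p, a, b, hp, hp5, ha, hg, ?_, ⟨QuotientGroup.mk' (Subgroup.center G) y, orderOf_map hp hy _ hk',
    hel.map hp _ (QuotientGroup.mk'_surjective _) ?_ hk'⟩, hb, fun u hu => ?_⟩
  · intro h
    apply hG
    rw [Subgroup.card_eq_card_quotient_mul_card_subgroup (Subgroup.center G)]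
    exact Dvd.dvd.mul_right h _
  · rw [hk]
    exact Group.isSolvable_of_comm fun a b => Subtype.ext ((Subgroup.mem_center_iff.1 b.2) a)
  · have h1 := cent_quot hp hc hcent u hu
    have h2 : 0 < Nat.card (Subgroup.center G) := Nat.card_pos
    have h3 : Nat.card (Subgroup.centralizer ({u} : Set (G ⧸ Subgroup.center G))) ≤
        Nat.card (Subgroup.centralizer ({u} : Set (G ⧸ Subgroup.center G))) * Nat.card (Subgroup.center G) :=
      Nat.le_mul_of_pos_right _ h2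
    omega

section

variable {ι : Type} [Fintype ι] [DecidableEq ι] {F : Type} [Field F] [Fintype F]

/-- The general orthogonal row. -/
theorem cnt_orth_of {Q : QuadraticForm F (ι → F)} (hQ : (polarBilin Q).Nondegenerate)
    (hn : 3 ≤ Fintype.card ι) (hs : ∃ u : ι → F, u ≠ 0 ∧ Q u = 0) {p a g : ℕ} (hp : p.Prime) (hp5 : 5 ≤ p)
    (ha : 1 ≤ a) (hpg : ¬ p ∣ g) (h1 : p ^ a ∣ Nat.card (Cfsg.POmega F (⇑Q)))
    (h2 : ¬ p ^ (a + 1) ∣ Nat.card (Cfsg.POmega F (⇑Q))) (hpF : ¬ p ∣ Fintype.card F)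
    (h2e : finrank F (ι → F) < 2 * orderOf ((Fintype.card F : ℕ) : ZMod p))
    (hel : ∀ y : Cfsg.Omega F (⇑Q), orderOf y = p ^ a → El p y) {R κ b : ℕ}
    (hR : Fintype.card F ^ orderOf ((Fintype.card F : ℕ) : ZMod p) ≤ R ^ 2)
    (hK : ∀ z : Cfsg.Omega F (⇑Q), orderOf z = p → Nat.card (K1 (matRep (omHom (⇑Q))) z) ≤ κ)
    (hb : ∀ H : Subgroup (Cfsg.POmega F (⇑Q)), H ≠ ⊤ → b ≤ H.index) (hlast : 2 * ((R + 1) * κ) ≤ b) :
    Cnt g (Cfsg.POmega F (⇑Q)) := by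
  have hc := not_dvd_center_omega hQ hn hs hp (by omega)
  have hcard : Nat.card (Cfsg.Omega F (⇑Q)) =
      Nat.card (Cfsg.POmega F (⇑Q)) * Nat.card (Subgroup.center (Cfsg.Omega F (⇑Q))) :=
    Subgroup.card_eq_card_quotient_mul_card_subgroup _
  have hG : p ^ a ∣ Nat.card (Cfsg.Omega F (⇑Q)) := by
    rw [hcard]
    exact Dvd.dvd.mul_right h1 _
  have hG' : ¬ p ^ (a + 1) ∣ Nat.card (Cfsg.Omega F (⇑Q)) := by
    rw [hcard, mul_comm]
    exact not_pow_dvd_mul_of_not_dvd hp hc h2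
  obtain ⟨y, hy⟩ := exists_orderOf hp (by omega) (commuting_of_rep (matRep (omHom (⇑Q)))
    (matRep_injective (omHom_injective _)) hp hpF h2e) hG
  refine cnt_center hp hp5 ha hpg hG' hy (hel y hy) hc (c := (R + 1) * κ) (fun z hz => ?_) hb hlast
  refine (cent_le (matRep (omHom (⇑Q))) (matRep_injective (omHom_injective _)) (frm_polar hQ)
    (fun x y z => polar_add_left Q x y z) (RingHom.id F) (fun c x y => ?_) (fun g u v => omHom_polar _ g u v) hp hpF
    h2e hz hR).trans (Nat.mul_le_mul_left _ (hK z hz))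
  show polar (⇑Q) (c • x) y = c * polar (⇑Q) x y
  rw [polar_smul_left, smul_eq_mul]

/-- facts about an element of order `p` -/
theorem fix_facts {Q : QuadraticForm F (ι → F)} {p e : ℕ} (hp : p.Prime) (hpF : ¬ p ∣ Fintype.card F)
    (he : orderOf ((Fintype.card F : ℕ) : ZMod p) = e) (h2e : finrank F (ι → F) < 2 * e) {z : Cfsg.Omega F (⇑Q)}
    (hz : orderOf z = p) : finrank F (fixS (matRep (omHom (⇑Q)) z)) + e = finrank F (ι → F) ∧ z ^ p = 1 ∧
      matRep (omHom (⇑Q)) z ^ p ^ 1 = 1 ∧ matRep (omHom (⇑Q)) z ≠ 1 ∧ (p : F) ≠ 0 := by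
  have hzp : z ^ p = 1 := by rw [← hz, pow_orderOf_eq_one]
  have h1 : matRep (omHom (⇑Q)) z ^ p ^ 1 = 1 := by rw [pow_one, ← map_pow, hzp, map_one]
  have h2 : matRep (omHom (⇑Q)) z ≠ 1 := by
    intro h
    have h3 : z = 1 := matRep_injective (omHom_injective _) (by rw [h, map_one])
    rw [h3, orderOf_one] at hz
    exact hp.one_lt.ne hz
  exact ⟨finrank_fixS_add hp hpF h1 h2 he h2e, hzp, h1, h2, cast_ne_zero_of_not_dvd hp hpF⟩

end

section

variable {F : Type} [Field F] [Fintype F] {m q p₀ f : ℕ}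

theorem arith_minus {q m : ℕ} (hq : 2 ≤ q) (hm : 4 ≤ m) :
    2 * ((q ^ m + 1) * 1) ≤ (q ^ m + 1) * (q ^ (m - 1) - 1) / (q - 1) := by
  rw [Nat.le_div_iff_mul_le (by omega)]
  have h1 : q ^ 3 ≤ q ^ (m - 1) := Nat.pow_le_pow_right (by omega) (by omega)
  have h2 : 2 * (q - 1) ≤ q ^ (m - 1) - 1 := by
    have h3 : 2 * q ≤ q ^ 3 := by
      have : q ^ 3 = q * (q * q) := by ring
      nlinarith
    omega
  calc 2 * ((q ^ m + 1) * 1) * (q - 1) = (q ^ m + 1) * (2 * (q - 1)) := by ring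
    _ ≤ _ := Nat.mul_le_mul_left _ h2

/-- `PΩ⁻_{2m}(q)`. -/
theorem cnt_minus {g : ℕ} (hg : Cond q f g) (hp₀ : p₀.Prime) (hf : 1 ≤ f) (hq : q = p₀ ^ f)
    (hF : Fintype.card F = q) (hm : 4 ≤ m) (a b : F)
    (hab : ∀ z₁ z₂ : F, z₁ ^ 2 + a * z₁ * z₂ + b * z₂ ^ 2 = 0 → z₁ = 0 ∧ z₂ = 0) :
    Cnt g (Cfsg.POmega F (Cfsg.quadFormMinus (m - 1) F a b)) := by
  have hq1 : 1 < q := hF ▸ Fintype.one_lt_card
  obtain ⟨p, k, ⟨hp, hp5, hk, hord, hdvd, hdvd', hpf⟩, hs⟩ := exists_pack_irred (e := 2 * m) hp₀ hf hq (by omega)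
    (by omega) (by omega)
  obtain ⟨h1, h2⟩ := add_one_facts hp (by omega) (by omega) hord hdvd hdvd'
  have hpq : ¬ p ∣ q := not_dvd_of_orderOf hp hord (by omega)
  have hcard := Cfsg.Agent.S0294.result hF m hm a b hab
  have hind := (Cfsg.Agent.S2147.result hF m hm a b hab).1
  have hdim : Fintype.card ((Fin (m - 1) ⊕ Fin (m - 1)) ⊕ Fin 2) = 2 * m := by
    simp only [Fintype.card_sum, Fintype.card_fin]
    omega
  have hd : finrank F ((Fin (m - 1) ⊕ Fin (m - 1)) ⊕ Fin 2 → F) = 2 * m := by rw [finrank_pi_fin, hdim]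
  rw [← coe_quadMinus] at hcard hind ⊢
  have hQ : (polarBilin (quadMinus (m - 1) F a b)).Nondegenerate := quadMinus_nondegenerate hab
  refine cnt_orth_of hQ (by omega) (quadMinus_isotropic (by omega) a b) hp hp5 hk (hg p hp hp5 hpf (by omega))
    ?_ ?_ (by rwa [hF]) (by rw [hd, hF, hord]; omega) (fun y hy => ?_) (R := q ^ m) (κ := 1)
    (by rw [hF, hord, ← pow_mul, mul_comm 2 m]) (fun z hz => ?_) hind (arith_minus (by omega) hm)
  · refine pow_dvd_of_dvd_four_mul hp (by omega) (Nat.gcd_dvd_left 4 (q ^ m + 1)) ?_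
    rw [hcard]
    exact Dvd.dvd.mul_right (Dvd.dvd.mul_left h1 _) _
  · intro h3
    have h4 : p ^ (k + 1) ∣ q ^ (m * (m - 1)) * (q ^ m + 1) * ∏ i ∈ Finset.range (m - 1), (q ^ (2 * (i + 1)) - 1) := by
      rw [← hcard]
      exact Dvd.dvd.mul_left h3 _
    rw [mul_comm] at h4
    refine not_pow_dvd_mul_of_not_dvd hp ?_ (not_pow_dvd_mul_of_not_dvd hp (not_dvd_pow hp hpq) h2) h4
    rw [← Nat.Prime.coprime_iff_not_dvd hp, Nat.coprime_prod_right_iff]
    intro i hi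
    have := Finset.mem_range.1 hi
    exact (Nat.Prime.coprime_iff_not_dvd hp).2 (not_dvd_of_lt (by omega) hord (by omega) (by omega))
  · exact el_of_size (matRep (omHom _)) (matRep_injective (omHom_injective _)) hp
      (by omega) hk (by rwa [hF]) (by rw [hd, hF, hord]; omega) (by rw [hF, hd]; exact hs) hy
      (core_irred (matRep (omHom _)) (matRep_injective (omHom_injective _)) hp (by rwa [hF])
        (by rw [hF, hord, hd]) hk hy)
  · obtain ⟨e1, e2, e3, e4, e5⟩ := fix_facts hp (by rwa [hF]) (by rw [hF, hord]) (by rw [hd]; omega) hz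
    rw [hd] at e1
    refine (card_K1_zero (matRep_injective (omHom_injective _)) e5 e2 ?_).le
    exact Submodule.finrank_eq_zero.1 (by omega)

theorem arith_odd5 {q m : ℕ} (hq : 2 ≤ q) (hm : 3 ≤ m) :
    2 * ((q ^ m + 1) * (q - 1)) ≤ (q ^ (2 * m) - 1) / (q - 1) := by
  rw [Nat.le_div_iff_mul_le (by omega)]
  obtain ⟨r, rfl⟩ : ∃ r, q = r + 1 := ⟨q - 1, by omega⟩
  have h1 : (r + 1) ^ 3 ≤ (r + 1) ^ m := Nat.pow_le_pow_right (by omega) (by omega)
  have h2 : (r + 1) ^ (2 * m) - 1 = ((r + 1) ^ m + 1) * ((r + 1) ^ m - 1) := by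
    have := Nat.sq_sub_sq ((r + 1) ^ m) 1
    rw [one_pow, ← pow_mul, mul_comm m 2] at this
    exact this
  rw [h2, Nat.add_sub_cancel]
  have h3 : 2 * (r * r) ≤ (r + 1) ^ m - 1 := by
    have h4 : (r + 1) ^ 3 = r * (r * r) + 3 * (r * r) + 3 * r + 1 := by ring
    have h5 : 2 * (r * r) + 1 ≤ (r + 1) ^ 3 := by
      rw [h4]
      have : 0 ≤ r * (r * r) := Nat.zero_le _
      nlinarith
    omega
  calc 2 * (((r + 1) ^ m + 1) * r) * r = ((r + 1) ^ m + 1) * (2 * (r * r)) := by ring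
    _ ≤ _ := Nat.mul_le_mul_left _ h3

theorem arith_odd3 {m : ℕ} (hm : 4 ≤ m) : 2 * ((3 ^ m + 1) * (3 - 1)) ≤ 3 ^ m * (3 ^ m - 1) / 2 := by
  rw [Nat.le_div_iff_mul_le (by omega)]
  have h1 : 3 ^ 4 ≤ 3 ^ m := Nat.pow_le_pow_right (by omega) (by omega)
  obtain ⟨x, hx⟩ : ∃ x, 3 ^ m = x + 81 := ⟨3 ^ m - 81, by omega⟩
  rw [hx, show x + 81 - 1 = x + 80 by omega]
  nlinarith

set_option maxHeartbeats 1000000 in
/-- `PΩ_{2m+1}(q)`. -/
theorem cnt_odd {g : ℕ} (hg : Cond q f g) (hp₀ : p₀.Prime) (hf : 1 ≤ f) (hq : q = p₀ ^ f)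
    (hF : Fintype.card F = q) (hm : 3 ≤ m) (hodd : Odd q)
    (h36 : ¬ (q = 3 ∧ m = 3)) (h56 : ¬ (q = 5 ∧ m = 3)) : Cnt g (Cfsg.POmega F (Cfsg.quadFormOdd m F)) := by
  have hq1 : 1 < q := hF ▸ Fintype.one_lt_card
  have hexc : ¬ Exc q (2 * m) := by
    obtain ⟨j, hj⟩ := hodd
    unfold Exc
    omega
  obtain ⟨p, k, ⟨hp, hp5, hk, hord, hdvd, hdvd', hpf⟩, hs⟩ := exists_pack (e := 2 * m) hp₀ hf hq (by omega) hexc
  have hpq : ¬ p ∣ q := not_dvd_of_orderOf hp hord (by omega)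
  have hcard := Cfsg.Agent.S0292.result hF hodd m hm
  obtain ⟨b, hind, hlast⟩ : ∃ b, (∀ H : Subgroup (Cfsg.POmega F (Cfsg.quadFormOdd m F)), H ≠ ⊤ → b ≤ H.index) ∧
      2 * ((q ^ m + 1) * (q - 1)) ≤ b := by
    rcases Nat.lt_or_ge q 5 with h5 | h5
    · have h3 : q = 3 := by
        obtain ⟨j, hj⟩ := hodd
        omega
      subst h3
      exact ⟨_, (Cfsg.Agent.S2144.result hF m hm).1, arith_odd3 (by omega)⟩
    · exact ⟨_, (Cfsg.Agent.S2143.result hF hodd h5 m hm).1, arith_odd5 (by omega) hm⟩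
  have hdim : Fintype.card (Unit ⊕ (Fin m ⊕ Fin m)) = 2 * m + 1 := by
    simp only [Fintype.card_sum, Fintype.card_fin, Fintype.card_unit]
    omega
  have hd : finrank F (Unit ⊕ (Fin m ⊕ Fin m) → F) = 2 * m + 1 := by rw [finrank_pi_fin, hdim]
  have h2F : (2 : F) ≠ 0 := by
    intro h
    have h6 : ringChar F = 2 := by
      have h7 : ringChar F ∣ 2 := (ringChar.spec F 2).1 (by exact_mod_cast h)
      exact (Nat.prime_dvd_prime_iff_eq (CharP.char_is_prime F (ringChar F)) Nat.prime_two).1 h7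
    have h7 := FiniteField.even_card_of_char_two h6
    rw [hF] at h7
    have h8 := Nat.odd_iff.1 hodd
    omega
  rw [← coe_quadOdd] at hcard hind ⊢
  have hQ : (polarBilin (quadOdd m F)).Nondegenerate := quadOdd_nondegenerate h2F
  have hsing : ∃ u : Unit ⊕ (Fin m ⊕ Fin m) → F, u ≠ 0 ∧ quadOdd m F u = 0 := quadOdd_isotropic (by omega)
  refine cnt_orth_of hQ (by omega) hsing hp hp5 hk (hg p hp hp5 hpf (by omega)) ?_ ?_ (by rwa [hF])
    (by rw [hd, hF, hord]; omega) (fun y hy => ?_) (R := q ^ m) (κ := q - 1)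
    (by rw [hF, hord, ← pow_mul, mul_comm 2 m]) (fun z hz => ?_) hind hlast
  · refine pow_dvd_of_dvd_four_mul (g := 2) hp (by omega) (by norm_num) ?_
    rw [hcard]
    exact Dvd.dvd.mul_left (hdvd.trans (dvd_prod_factor (by omega) le_rfl)) _
  · intro h3
    have h4 : p ^ (k + 1) ∣ q ^ (m ^ 2) * ∏ i ∈ Finset.range m, (q ^ (2 * (i + 1)) - 1) := by
      rw [← hcard]
      exact Dvd.dvd.mul_left h3 _
    refine not_pow_dvd_mul_of_not_dvd hp (not_dvd_pow hp hpq) ?_ h4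
    refine not_pow_dvd_prod hp (Finset.range m) _ (m - 1) ?_ ?_ (Finset.mem_range.2 (by omega))
    · have : m - 1 + 1 = m := by omega
      rw [this]
      exact hdvd'
    · intro i hi hi'
      have := Finset.mem_range.1 hi
      exact not_dvd_of_lt (by omega) hord (by omega) (by omega)
  · exact el_of_size (matRep (omHom _)) (matRep_injective (omHom_injective _)) hp
      (by omega) hk (by rwa [hF]) (by rw [hd, hF, hord]; omega) (by rw [hF, hd]; exact Or.inl (hs _ (by omega))) hy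
      (core_fix_one (matRep (omHom _)) (matRep_injective (omHom_injective _)) (frm_polar hQ)
        (fun g u v => omHom_polar _ g u v) hp (by rwa [hF]) (by rw [hd, hF, hord]; omega) (by rw [hd, hF, hord]) hk hy)
  · obtain ⟨e1, e2, e3, e4, e5⟩ := fix_facts hp (by rwa [hF]) (by rw [hF, hord]) (by rw [hd]; omega) hz
    rw [hd] at e1
    have h6 := card_K1_one (matRep_injective (omHom_injective _)) e5 e2 (by omega)
    rwa [hF] at h6

end

end Cfsg.Agent.H500.AS
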