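import Mathlib
import Cfsg.Agent.H518.SUPlusTwo
import Cfsg.Agent.H500.AS.Orth
import Cfsg.Agent.H500.AS.Index
import Cfsg.Agent.S2145
import Cfsg.Agent.S2146

/-!
# S3943: the counting data for `PΩ⁺_{2m}(q)` (helper500)

`cnt_plus`.
-/

set_option autoImplicit false

universe u v w

namespace Cfsg.Agent.H500.AS

open Module Cfsg.Agent.H518.DghpFix Cfsg.Agent.H518.DghpPrim Cfsg.Agent.H518.DghpMat Cfsg.Agent.H518.SU QuadraticMap
open Cfsg.Agent.LieClassical.OmegaReindex Cfsg.Agent.H489.AS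

variable {F : Type} [Field F] [Fintype F] {m q : ℕ}

theorem arith_plus4 {q m : ℕ} (hq : 4 ≤ q) (hm : 4 ≤ m) :
    2 * ((q ^ (m - 1) + 1) * (2 * (q ^ 2 - 1))) ≤ (q ^ m - 1) * (q ^ (m - 1) + 1) / (q - 1) := by
  rw [Nat.le_div_iff_mul_le (by omega)]
  obtain ⟨r, rfl⟩ : ∃ r, q = r + 4 := ⟨q - 4, by omega⟩
  have h1 : (r + 4) ^ 4 ≤ (r + 4) ^ m := Nat.pow_le_pow_right (by omega) (by omega)
  have e1 : (r + 4) ^ 2 - 1 = r * r + 8 * r + 15 := by
    have : (r + 4) ^ 2 = r * r + 8 * r + 15 + 1 := by ring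
    omega
  have h3 : 4 * (r * r + 8 * r + 15) * (r + 3) ≤ (r + 4) ^ m - 1 := by
    have h4 : (r + 4) ^ 4 = (r * r + 8 * r + 15) * (r * r + 8 * r + 17) + 1 := by ring
    have h5 : 4 * (r * r + 8 * r + 15) * (r + 3) ≤ (r * r + 8 * r + 15) * (r * r + 8 * r + 17) := by
      have h6 : 4 * (r + 3) ≤ r * r + 8 * r + 17 := by nlinarith
      calc 4 * (r * r + 8 * r + 15) * (r + 3) = (r * r + 8 * r + 15) * (4 * (r + 3)) := by ring
        _ ≤ _ := Nat.mul_le_mul_left _ h6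
    omega
  rw [e1, show r + 4 - 1 = r + 3 by omega]
  calc 2 * (((r + 4) ^ (m - 1) + 1) * (2 * (r * r + 8 * r + 15))) * (r + 3) =
      4 * (r * r + 8 * r + 15) * (r + 3) * ((r + 4) ^ (m - 1) + 1) := by ring
    _ ≤ _ := Nat.mul_le_mul_right _ h3

theorem arith_plus2 {m : ℕ} (hm : 5 ≤ m) :
    2 * ((2 ^ (m - 1) + 1) * (2 * (2 ^ 2 - 1))) ≤ 2 ^ (m - 1) * (2 ^ m - 1) := by
  have h1 : 2 ^ 4 ≤ 2 ^ (m - 1) := Nat.pow_le_pow_right (by omega) (by omega)
  have h2 : 2 ^ m = 2 * 2 ^ (m - 1) := by rw [← pow_succ']; congr 1; omega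
  obtain ⟨x, hx⟩ : ∃ x, 2 ^ (m - 1) = x + 16 := ⟨2 ^ (m - 1) - 16, by omega⟩
  rw [h2, hx, show 2 * (x + 16) - 1 = 2 * x + 31 by omega, show 2 ^ 2 - 1 = 3 by norm_num]
  nlinarith

theorem arith_plus3 {k : ℕ} (hk : 4 ≤ k) :
    2 * ((3 ^ k + 1) * (2 * (3 ^ 2 - 1))) ≤ 3 ^ k * (3 ^ k - 1) / 2 := by
  rw [Nat.le_div_iff_mul_le (by omega)]
  have h1 : 3 ^ 4 ≤ 3 ^ k := Nat.pow_le_pow_right (by omega) (by omega)
  obtain ⟨x, hx⟩ : ∃ x, 3 ^ k = x + 81 := ⟨3 ^ k - 81, by omega⟩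
  rw [hx, show x + 81 - 1 = x + 80 by omega, show 3 ^ 2 - 1 = 8 by norm_num]
  nlinarith

/-- the index -/
theorem plus_index (hF : Fintype.card F = q) (hm : 4 ≤ m) (h2 : ¬ (q = 2 ∧ m = 4)) (h3 : ¬ (q = 3 ∧ m = 4)) :
    ∃ b, (∀ H : Subgroup (Cfsg.POmega F (Cfsg.quadFormPlus m F)), H ≠ ⊤ → b ≤ H.index) ∧
      2 * ((q ^ (m - 1) + 1) * (2 * (q ^ 2 - 1))) ≤ b := by
  have hq1 : 1 < q := hF ▸ Fintype.one_lt_card
  rcases Nat.lt_or_ge q 4 with h4 | h4
  · have hc : q = 2 ∨ q = 3 := by omega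
    rcases hc with rfl | rfl
    · exact ⟨_, (Cfsg.Agent.S2146.result hF m hm).1, arith_plus2 (by omega)⟩
    · obtain ⟨k, rfl⟩ : ∃ k, m = k + 1 := ⟨m - 1, by omega⟩
      exact ⟨_, plus_three_index_ge hF (by omega), arith_plus3 (by omega)⟩
  · exact ⟨_, (Cfsg.Agent.S2145.result hF h4 m hm).1, arith_plus4 h4 hm⟩

/-- the order of `K1` -/
theorem card_K1_plus (hF : Fintype.card F = q) (hm : 4 ≤ m) {p : ℕ} (hp : p.Prime) (hp5 : 5 ≤ p)
    (hord : orderOf (q : ZMod p) = 2 * (m - 1)) {z : Cfsg.Omega F (⇑(quadPlus m F))} (hz : orderOf z = p) :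
    Nat.card (K1 (matRep (omHom (⇑(quadPlus m F)))) z) ≤ 2 * (q ^ 2 - 1) := by
  have hpq : ¬ p ∣ q := not_dvd_of_orderOf hp hord (by omega)
  have hpF : ¬ p ∣ Fintype.card F := by rwa [hF]
  have hQ : (polarBilin (quadPlus m F)).Nondegenerate := quadPlus_nondegenerate
  have hdim : Fintype.card (Fin m ⊕ Fin m) = 2 * m := by
    simp only [Fintype.card_sum, Fintype.card_fin]
    omega
  have hd : finrank F (Fin m ⊕ Fin m → F) = 2 * m := by rw [finrank_pi_fin, hdim]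
  obtain ⟨e1, e2, e3, e4, e5⟩ := fix_facts hp hpF (by rw [hF, hord]) (by rw [hd]; omega) hz
  rw [hd] at e1
  have h := card_K1_two (matRep_injective (omHom_injective _)) e5 e2 (by omega) (quadPlus m F)
    (fun g v => omHom_preserves _ g v)
    (fun v hv hv0 => aniso hF hm hp hp5 hord e3 e4 (fun w => omHom_preserves _ z w) hv hv0)
    (fun v hv hv0 => eq_zero_of_fix (frm_polar hQ) (by rw [pow_one]; exact e5) e3
      (fun u w => omHom_polar _ z u w) hv hv0)
  rwa [hF] at h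

/-- The general result. -/
theorem cnt_plus_of {g : ℕ} (hF : Fintype.card F = q) (hm : 4 ≤ m) (h2 : ¬ (q = 2 ∧ m = 4))
    (h3 : ¬ (q = 3 ∧ m = 4)) {p k : ℕ} (hp : p.Prime) (hp5 : 5 ≤ p) (hk : 1 ≤ k) (hpg : ¬ p ∣ g)
    (hord : orderOf (q : ZMod p) = 2 * (m - 1)) (hdvd : p ^ k ∣ q ^ (2 * (m - 1)) - 1)
    (hdvd' : ¬ p ^ (k + 1) ∣ q ^ (2 * (m - 1)) - 1)
    (hel : ∀ y : Cfsg.Omega F (⇑(quadPlus m F)), orderOf y = p ^ k → El p y) :
    Cnt g (Cfsg.POmega F (Cfsg.quadFormPlus m F)) := by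
  have hq1 : 1 < q := hF ▸ Fintype.one_lt_card
  have hpq : ¬ p ∣ q := not_dvd_of_orderOf hp hord (by omega)
  have hcard := Cfsg.Agent.S0293.result hF m hm
  obtain ⟨b, hind, hlast⟩ := plus_index hF hm h2 h3
  have hdim : Fintype.card (Fin m ⊕ Fin m) = 2 * m := by
    simp only [Fintype.card_sum, Fintype.card_fin]
    omega
  have hd : finrank F (Fin m ⊕ Fin m → F) = 2 * m := by rw [finrank_pi_fin, hdim]
  rw [← coe_quadPlus] at hcard hind ⊢
  have hQ : (polarBilin (quadPlus m F)).Nondegenerate := quadPlus_nondegenerate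
  refine cnt_orth_of hQ (by omega) (quadPlus_isotropic (by omega)) hp hp5 hk hpg
    ?_ ?_ (by rwa [hF]) (by rw [hd, hF, hord]; omega) hel (R := q ^ (m - 1)) (κ := 2 * (q ^ 2 - 1))
    (by rw [hF, hord, ← pow_mul, mul_comm 2 (m - 1)]) (fun z hz => card_K1_plus hF hm hp hp5 hord hz) hind hlast
  · refine pow_dvd_of_dvd_four_mul hp (by omega) (Nat.gcd_dvd_left 4 (q ^ m - 1)) ?_
    rw [hcard]
    exact Dvd.dvd.mul_left (hdvd.trans (dvd_prod_factor (by omega) le_rfl)) _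
  · intro h3
    have h4 : p ^ (k + 1) ∣ q ^ (m * (m - 1)) * (q ^ m - 1) * ∏ i ∈ Finset.range (m - 1), (q ^ (2 * (i + 1)) - 1) := by
      rw [← hcard]
      exact Dvd.dvd.mul_left h3 _
    refine not_pow_dvd_mul_of_not_dvd hp ?_ ?_ h4
    · intro h5
      rcases (Nat.Prime.dvd_mul hp).1 h5 with h6 | h6
      · exact not_dvd_pow hp hpq h6
      · exact not_dvd_of_lt (by omega) hord (by omega) (by omega) h6
    · refine not_pow_dvd_prod hp (Finset.range (m - 1)) _ (m - 2) ?_ ?_ (Finset.mem_range.2 (by omega))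
      · have : m - 2 + 1 = m - 1 := by omega
        rw [this]
        exact hdvd'
      · intro i hi hi'
        have := Finset.mem_range.1 hi
        exact not_dvd_of_lt (by omega) hord (by omega) (by omega)

/-- The exceptional primes `p = 2m - 1`, `q = 2`. -/
theorem el_plus_two (hF : Fintype.card F = 2) (hm : 4 ≤ m) {p : ℕ} (hp : p.Prime) (hpm : p = 2 * m - 1)
    (hord : orderOf ((2 : ℕ) : ZMod p) = 2 * (m - 1)) (y : Cfsg.Omega F (⇑(quadPlus m F))) (hy : orderOf y = p ^ 1) :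
    El p y := by
  have hpq : ¬ p ∣ 2 := not_dvd_of_orderOf hp hord (by omega)
  have hcard := Cfsg.Agent.S0293.result hF m hm
  have hdim : Fintype.card (Fin m ⊕ Fin m) = 2 * m := by
    simp only [Fintype.card_sum, Fintype.card_fin]
    omega
  have hd : finrank F (Fin m ⊕ Fin m → F) = 2 * m := by rw [finrank_pi_fin, hdim]
  rw [← coe_quadPlus] at hcard
  have hQ : (polarBilin (quadPlus m F)).Nondegenerate := quadPlus_nondegenerate
  have hs : ∃ u : Fin m ⊕ Fin m → F, u ≠ 0 ∧ quadPlus m F u = 0 := quadPlus_isotropic (by omega)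
  refine el_of_rep (matRep (omHom (⇑(quadPlus m F)))) (matRep_injective (omHom_injective _)) hp
    le_rfl (by rwa [hF]) (by rw [hd, hF, hord]; omega) hy ?_ (core_plus hF hm hp (by omega) le_rfl hord hy)
  intro T t ht htp htF hT hyT u hu
  rw [pow_one] at hy
  rw [Nat.sub_self, pow_zero, pow_one]
  by_cases hTbot : T = ⊥
  · rw [hTbot, Subgroup.mem_bot] at hu
    rw [hu, mul_one, one_mul]
  have : Fact t.Prime := ⟨ht⟩
  have ht2 : t ≠ 2 := by
    rintro rfl
    exact htF (by rw [hF])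
  have htΩ : t ∣ Nat.card (Cfsg.Omega F (⇑(quadPlus m F))) := by
    rcases hT.card_eq_or_dvd with h | h
    · exact absurd (Subgroup.card_eq_one.1 h) hTbot
    · exact h.trans (Subgroup.card_subgroup_dvd_card T)
  have hcard2 : Nat.card (Cfsg.Omega F (⇑(quadPlus m F))) =
      Nat.card (Cfsg.POmega F (⇑(quadPlus m F))) * Nat.card (Subgroup.center (Cfsg.Omega F (⇑(quadPlus m F)))) :=
    Subgroup.card_eq_card_quotient_mul_card_subgroup _
  have htP : t ∣ Nat.card (Cfsg.POmega F (⇑(quadPlus m F))) := by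
    rw [hcard2] at htΩ
    exact ((Nat.Prime.dvd_mul ht).1 htΩ).resolve_right (not_dvd_center_omega hQ (by omega) hs ht ht2)
  have htprod : t ∣ 2 ^ (m * (m - 1)) * (2 ^ m - 1) * ∏ i ∈ Finset.range (m - 1), (2 ^ (2 * (i + 1)) - 1) := by
    rw [← hcard]
    exact Dvd.dvd.mul_left htP _
  -- the order of `2` modulo `t`
  have htq : ¬ t ∣ 2 := fun h => ht2 ((Nat.prime_dvd_prime_iff_eq ht Nat.prime_two).1 h)
  obtain ⟨j, hj, hjm, hjt⟩ : ∃ j, 0 < j ∧ j ≤ 2 * (m - 1) ∧ t ∣ 2 ^ j - 1 := by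
    rcases (Nat.Prime.dvd_mul ht).1 htprod with h | h
    · rcases (Nat.Prime.dvd_mul ht).1 h with h | h
      · exact absurd h (not_dvd_pow ht htq)
      · exact ⟨m, by omega, by omega, h⟩
    · obtain ⟨i, hi, h'⟩ := (Prime.dvd_finsetProd_iff ht.prime _).1 h
      have := Finset.mem_range.1 hi
      exact ⟨2 * (i + 1), by omega, by omega, h'⟩
  have hle : orderOf ((2 : ℕ) : ZMod t) ≤ 2 * (m - 1) := by
    have h1 := (Lib.Zsigmondy.dvd_pow_sub_one_iff (r := t) (by omega : 1 ≤ 2) j).1 hjt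
    exact (Nat.le_of_dvd hj h1).trans hjm
  have hpos : 0 < orderOf ((2 : ℕ) : ZMod t) := by
    have h1 := (Lib.Zsigmondy.dvd_pow_sub_one_iff (r := t) (by omega : 1 ≤ 2) j).1 hjt
    exact Nat.pos_of_dvd_of_pos h1 hj
  have hne1 : orderOf ((2 : ℕ) : ZMod t) ≠ 1 := by
    intro h
    have h1 := dvd_pow_sub_one (by omega : 1 ≤ 2) h
    rw [pow_one] at h1
    exact ht.one_lt.ne' (Nat.dvd_one.1 h1)
  refine centralize_odd_rep (matRep (omHom (⇑(quadPlus m F)))) (matRep_injective (omHom_injective _)) hp (by omega)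
    ht ht2 htp (cast_ne_zero_of_not_dvd ht htF) hy hT hyT (by rw [hd]; omega) ?_ ?_ u hu
  · rw [hd, hF]
    have : p * 2 ≤ p * orderOf ((2 : ℕ) : ZMod t) := Nat.mul_le_mul_left p (by omega)
    omega
  · rw [hF]
    intro h
    have := Nat.le_of_dvd hpos h
    omega

theorem cnt_plus_two_of {g : ℕ} (hg : Cond 2 1 g) (hF : Fintype.card F = 2) (hm : 5 ≤ m) {p : ℕ} (hp : p.Prime)
    (hpm : p = 2 * m - 1)
    (hord : orderOf ((2 : ℕ) : ZMod p) = 2 * (m - 1)) (hdvd' : ¬ p ^ 2 ∣ 2 ^ (2 * (m - 1)) - 1) :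
    Cnt g (Cfsg.POmega F (Cfsg.quadFormPlus m F)) :=
  cnt_plus_of hF (by omega) (by omega) (by omega) hp (by omega) le_rfl
    (hg p hp (by omega) (fun h => hp.one_lt.ne' (Nat.dvd_one.1 h)) (by omega)) hord
    (by rw [pow_one]; exact dvd_pow_sub_one (by omega) hord) hdvd' (el_plus_two hF (by omega) hp hpm hord)

/-- `PΩ⁺_{2m}(q)`, `(m, q) ≠ (4, 2), (4, 3), (4, 5)`. -/
theorem cnt_plus {p₀ f g : ℕ} (hg : Cond q f g) (hp₀ : p₀.Prime)
    (hf : 1 ≤ f) (hq : q = p₀ ^ f) (hF : Fintype.card F = q) (hm : 4 ≤ m)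
    (h2 : ¬ (q = 2 ∧ m = 4)) (h3 : ¬ (q = 3 ∧ m = 4)) (h5 : ¬ (q = 5 ∧ m = 4)) :
    Cnt g (Cfsg.POmega F (Cfsg.quadFormPlus m F)) := by
  by_cases hexc : Exc q (2 * (m - 1))
  · have hf1 : f = 1 := by
      by_contra hcon
      have hpr : q.Prime := by
        rcases hexc with ⟨rfl, _⟩ | ⟨rfl, _⟩ | ⟨rfl, _⟩ <;> norm_num
      rw [hq] at hpr
      exact hcon (hpr.eq_one_of_pow)
    subst hf1
    rcases hexc with ⟨rfl, h⟩ | ⟨rfl, h⟩ | ⟨rfl, h⟩
    · rcases h with h | h | h | h | h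
      · omega
      · omega
      · obtain rfl : m = 6 := by omega
        exact cnt_plus_two_of hg hF (by omega) (p := 11) (by norm_num) rfl
          (orderOf_eq_of (by norm_num) (by norm_num) (by norm_num) fun i h1 h2 => by
            have : i ≤ 9 := by omega
            interval_cases i <;> norm_num) (by norm_num)
      · obtain rfl : m = 7 := by omega
        exact cnt_plus_two_of hg hF (by omega) (p := 13) (by norm_num) rfl
          (orderOf_eq_of (by norm_num) (by norm_num) (by norm_num) fun i h1 h2 => by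
            have : i ≤ 11 := by omega
            interval_cases i <;> norm_num) (by norm_num)
      · obtain rfl : m = 10 := by omega
        exact cnt_plus_two_of hg hF (by omega) (p := 19) (by norm_num) rfl
          (orderOf_eq_of (by norm_num) (by norm_num) (by norm_num) fun i h1 h2 => by
            have : i ≤ 17 := by omega
            interval_cases i <;> norm_num) (by norm_num)
    · omega
    · omega
  · have hq1 : 1 < q := hF ▸ Fintype.one_lt_card
    obtain ⟨p, k, ⟨hp, hp5, hk, hord, hdvd, hdvd', hpf⟩, hs⟩ := exists_pack (e := 2 * (m - 1)) hp₀ hf hq (by omega)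
      hexc
    have hpq : ¬ p ∣ q := not_dvd_of_orderOf hp hord (by omega)
    have hdim : Fintype.card (Fin m ⊕ Fin m) = 2 * m := by
      simp only [Fintype.card_sum, Fintype.card_fin]
      omega
    have hd : finrank F (Fin m ⊕ Fin m → F) = 2 * m := by rw [finrank_pi_fin, hdim]
    refine cnt_plus_of hF hm h2 h3 hp hp5 hk (hg p hp hp5 hpf (by omega)) hord hdvd hdvd' fun y hy => ?_
    exact el_of_size (matRep (omHom _)) (matRep_injective (omHom_injective _)) hp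
      (by omega) hk (by rwa [hF]) (by rw [hd, hF, hord]; omega) (by rw [hF, hd]; exact Or.inl (hs _ (by omega))) hy
      (core_plus hF hm hp hp5 hk hord hy)

end Cfsg.Agent.H500.AS
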